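import Cfsg.Agent.Lib.TwoPt.Local

/-!
# The case of a non-central interchanging involution
-/

set_option autoImplicit false

namespace Cfsg.Lib.TP
open Subgroup Cfsg.Lib Cfsg.Lib.FT Cfsg.Lib.GW MulAction
open Cfsg.Lib.BSW (mul_self_of_orderOf_two orderOf_two_of_mul_self inv_eq_of_orderOf_two)
open scoped commutatorElement

variable {G Ω : Type*} [Group G] [MulAction G Ω]

theorem isCyclic_of_central_four {Z : Type*} [Group Z] [Finite Z] (hZ : IsPGroup 2 Z)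
    (hu : ∀ x y : Z, orderOf x = 2 → orderOf y = 2 → x = y) {f : Z} (hf : f * f ≠ 1)
    (hc : ∀ z, z * f = f * z) : IsCyclic Z := by
  rcases pg_two_group_unique_involution hZ hu with h | ⟨m, x, y, hm, -, hx, hi, hy, -, hxy⟩
  · exact h
  exfalso
  by_cases e : f ∈ zpowers x
  · obtain ⟨k, rfl⟩ := e
    have : y * x ^ k * y⁻¹ = (x ^ k)⁻¹ := by rw [← conj_zpow, hxy, inv_zpow]
    rw [hc, mul_inv_cancel_right] at this
    exact hf (by nth_rw 2 [this]; exact mul_inv_cancel _)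
  · obtain ⟨k, hk⟩ := (mul_mem_iff_of_index_two hi (a := y) (b := f)).2 (by simp [hy, e])
    have h1 : y * x = x * y := by
      have : y * f * x = x * (y * f) := by rw [← hk]; exact ((Commute.refl x).zpow_left k).eq
      rw [mul_assoc, ← hc, ← mul_assoc, ← mul_assoc] at this
      exact mul_right_cancel this
    rw [h1, mul_inv_cancel_right] at hxy
    have h2 := orderOf_dvd_of_pow_eq_one (x := x) (n := 2) (by rw [sq]; nth_rw 2 [hxy]; exact mul_inv_cancel _)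
    rw [hx] at h2
    have := (Nat.pow_dvd_pow_iff_le_right (k := m + 1) (l := 1) Nat.one_lt_two).1 h2
    omega

namespace Hyp

variable {a b : Ω} {τ v ρ t : G} (h : Hyp a b τ v ρ) (s : CS a b τ v t)
include h s

theorem t_ord : orderOf t = 2 :=
  orderOf_two_of_mul_self (fun e => s.sw.not_mem h.t2.ne (e ▸ one_mem _)) s.tt

theorem ff : t * v * (t * v) = τ := by
  calc t * v * (t * v) = (t * v * t⁻¹) * v := by rw [inv_eq_of_orderOf_two (h.t_ord s)]; group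
    _ = τ := by rw [s.cv, mul_assoc, h.hf.vv, mul_one]

theorem vtv : v * t * v⁻¹ = t * τ := by
  have := h.ff s
  rw [h.hf.v_inv, ← this, ← mul_assoc, ← mul_assoc, ← mul_assoc, s.tt, one_mul]

theorem sw_cases {y : G} (hy : Sw a b y) (hc : y ∈ C1[τ]) :
    (y = t ∨ y = t * τ) ∨ (y = t * v ∨ y = t * (τ * v)) := by
  obtain ⟨w, hw, rfl⟩ := h.sw_mem s.sw s.cτ hy hc
  rcases h.hf.mem_four.1 hw with rfl | rfl | rfl | rfl <;> simp

theorem ff' : t * (τ * v) * (t * (τ * v)) = τ := by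
  have e : t * (τ * v) = τ * (t * v) := by rw [← mul_assoc, mem_c1.1 s.cτ, mul_assoc]
  have e2 := mem_c1.1 (mul_mem s.cτ h.hf.v_mem)
  rw [e, mul_assoc, ← mul_assoc (t * v), e2, mul_assoc τ, h.ff s, h.hf.tt, mul_one]

theorem sw_inv {y : G} (hy : Sw a b y) (hc : y ∈ C1[τ]) (h2 : y * y = 1) : y = t ∨ y = t * τ := by
  rcases h.sw_cases s hy hc with e | e | e
  · exact e
  · exact absurd (by rw [← h2, e, h.ff s]) h.hf.t_ne
  · exact absurd (by rw [← h2, e, h.ff' s]) h.hf.t_ne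

theorem sw_not_comm {y : G} (hy : Sw a b y) (hc : y ∈ C1[τ]) : y * v * y⁻¹ = τ * v := by
  obtain ⟨w, hw, rfl⟩ := h.sw_mem s.sw s.cτ hy hc
  rw [← s.cv, show t * w * v * (t * w)⁻¹ = t * (w * v * w⁻¹) * t⁻¹ by group, conj_τ (h.hf.le_c hw).2]

variable [Finite G] [Finite Ω]

/-- the four-group is a Sylow subgroup of its centralizer -/
theorem S1 {y : G} (h1 : y ∈ C1[τ]) (h2 : y ∈ C1[v]) (h3 : y * y ∈ four τ v) : y ∈ four τ v := by
  have hC : y ∈ C[four τ v] := centralizer_four τ v ▸ ⟨h1, h2⟩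
  by_contra hc
  obtain ⟨g, hg, hs⟩ := h.M_swap ⟨h1, centralizer_le_normalizer _ hC⟩ hc h3
  have e1 := h.sw_not_comm s hs (conj_mem_c1 hg.1 h1)
  have e2 := mem_centralizer_iff.1 hC _ ((mem_normalizer_iff.1 hg.2 v).1 (right_mem_four τ v))
  refine h.hf.w_ne_v (e1.symm.trans ?_)
  calc g⁻¹ * y * g * v * (g⁻¹ * y * g)⁻¹ = g⁻¹ * (y * (g * v * g⁻¹)) * y⁻¹ * g := by group
    _ = v := by rw [← e2]; group

omit [Finite Ω] in
theorem sw_conj_t {y : G} (hy : Sw a b y) (h2 : y * y = 1) : ∃ k ∈ st G a b, k * t * k⁻¹ = y := by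
  obtain ⟨k, hk, hc⟩ := h.sw_conj hy h2
  have h3 := hy.conj (inv_mem hk)
  rw [inv_inv] at h3
  rcases h.sw_inv s h3 hc (by
    rw [show k⁻¹ * y * k * (k⁻¹ * y * k) = k⁻¹ * (y * y) * k by group, h2]; group) with e | e
  · exact ⟨k, hk, by rw [← e]; group⟩
  · exact ⟨k * v, mul_mem hk h.vK, by
      rw [show k * v * t * (k * v)⁻¹ = k * (v * t * v⁻¹) * k⁻¹ by group, h.vtv s, ← e]; group⟩

theorem conj_t : IsConj τ t := by
  obtain ⟨y, h1, h2⟩ := h.d_pos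
  obtain ⟨g, rfl⟩ := isConj_iff.1 h1
  obtain ⟨k, -, e⟩ := h.sw_conj_t s h2 (h.hf.conj g).tt
  exact h1.trans (isConj_iff.2 ⟨k, e⟩).symm

theorem oneS {y : G} (hy : orderOf y = 2) : IsConj τ y := by
  obtain ⟨g, hg⟩ := h.G_swap hy
  obtain ⟨k, -, e⟩ := h.sw_conj_t s hg (by
    rw [show g⁻¹ * y * g * (g⁻¹ * y * g) = g⁻¹ * (y * y) * g by group, mul_self_of_orderOf_two hy]; group)
  exact (h.conj_t s).trans (isConj_iff.2 ⟨g * k, by
    rw [show g * k * t * (g * k)⁻¹ = g * (k * t * k⁻¹) * g⁻¹ by group, e]; group⟩)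

theorem dS : {y | IsConj τ y ∧ Sw a b y}.ncard * Nat.card ↥(st G a b ⊓ C1[t]) = Nat.card (st G a b) := by
  rw [← ncard_conj_mul' (st G a b) t]
  congr 2
  ext y
  refine ⟨fun hy => ?_, fun ⟨k, hk, e⟩ => e ▸ ⟨(h.conj_t s).trans (isConj_iff.2 ⟨k, rfl⟩), s.sw.conj hk⟩⟩
  obtain ⟨g, rfl⟩ := isConj_iff.1 hy.1
  exact h.sw_conj_t s hy.2 (h.hf.conj g).tt

omit [Finite Ω] in
open Classical in
theorem deltaS : {y | y ∈ D2 τ v ∧ Sw a b y}.ncard = if t ∈ D2 τ v then 2 else 0 := by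
  rw [h.ncard_sw s.sw s.cτ (· ∈ D2 τ v) (fun y hy => (D2_four h.hf hy).v_mem) fun y hy => D2_mul h.hf hy,
    if_neg (c := t * v ∈ D2 τ v) fun e => h.hf.t_ne (by rw [← h.ff s, (D2_four h.hf e).vv]), add_zero]

theorem le_M (ht : t ∉ D2 τ v) : C1[τ] ≤ N[four τ v] := by
  have e1 := h.E2
  have e2 := h.ncard_D2
  have e3 := h.two_le_j
  have e4 : (F2 Ω τ v).ncard ≤ (F1 Ω τ).ncard := j_le_i
  rw [h.deltaS s, if_neg ht] at e1
  rw [show (F1 Ω τ).ncard = (F2 Ω τ v).ncard by omega, mul_comm _ 2] at e2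
  have e5 := Nat.eq_of_mul_eq_mul_right (Nat.mul_pos (by omega) (by omega)) e2
  have e6 : ({v, τ * v} : Set G) = D2 τ v := Set.eq_of_subset_of_ncard_le (by
    rintro _ (rfl | rfl)
    · exact ⟨1, one_mem _, Or.inl (by group)⟩
    · exact ⟨1, one_mem _, Or.inr (by group)⟩) (by rw [e5, Set.ncard_pair h.hf.w_ne_v.symm])
  intro g hg
  refine Four.mem_normalizer (by rw [conj_τ hg]; exact left_mem_four τ v) ?_
  rcases (e6 ▸ ⟨g, hg, Or.inl rfl⟩ : g * v * g⁻¹ ∈ ({v, τ * v} : Set G)) with e | e <;> rw [e]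
  exacts [right_mem_four τ v, mul_mem (left_mem_four τ v) (right_mem_four τ v)]

/-- an element with square `τ` centralizes no involution other than `τ` -/
theorem uniq_inv {f y : G} (hf : f * f = τ) (hy : orderOf y = 2) (h1 : y ∈ C1[τ]) (h2 : y * f = f * y) :
    y = τ := by
  by_contra hne
  have hfτ : f ∈ C1[τ] := mem_c1.2 (by rw [← hf, mul_assoc])
  have key : ∀ g ∈ C1[τ], g⁻¹ * f * g * (g⁻¹ * f * g) = τ := fun g hg => by
    rw [show g⁻¹ * f * g * (g⁻¹ * f * g) = g⁻¹ * (f * f) * g⁻¹⁻¹ by group, hf, conj_τ (inv_mem hg)]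
  have S : ∀ z ∈ C1[τ], z ∈ C1[v] → z * z ≠ τ := fun z z1 z2 e =>
    h.hf.t_ne (e.symm.trans (h.hf.mul_self (h.S1 s z1 z2 (e ▸ left_mem_four τ v))))
  by_cases hD : y ∈ D2 τ v
  · obtain ⟨g, hg, e⟩ := hD
    refine S _ (conj_mem_c1 hg hfτ) ?_ (key g hg)
    have e2 : ∀ w, y = g * w * g⁻¹ → g⁻¹ * f * g ∈ C1[w] := fun w e => mem_c1.2 (by
      calc g⁻¹ * f * g * w = g⁻¹ * (f * y) * g := by rw [e]; group
        _ = _ := by rw [← h2, e]; group)
    rcases e with e | e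
    · exact e2 _ e
    · exact (h.hf.c_alt.le ⟨conj_mem_c1 hg hfτ, e2 _ e⟩).2
  · obtain ⟨g, hg, hs⟩ := h.C_swap h1 (Or.inl (mul_self_of_orderOf_two hy))
      (h.uniq_of_not_D2 h1 (ne_one_of_orderOf_two hy) hne hD)
    have hy' := conj_mem_c1 hg h1
    have hyy : g⁻¹ * y * g * (g⁻¹ * y * g) = 1 := by
      rw [show g⁻¹ * y * g * (g⁻¹ * y * g) = g⁻¹ * (y * y) * g by group, mul_self_of_orderOf_two hy]; group
    have hD' : g⁻¹ * y * g ∉ D2 τ v := fun e => hD (by simpa [mul_assoc] using D2_conj hg _ e)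
    have ht : t ∉ D2 τ v := fun e => hD' (by
      rcases h.sw_inv s hs hy' hyy with e' | e' <;> rw [e']
      exacts [e, mem_c1.1 s.cτ ▸ D2_mul h.hf e])
    have hc : g⁻¹ * y * g * (g⁻¹ * f * g) = g⁻¹ * f * g * (g⁻¹ * y * g) := by
      rw [show g⁻¹ * y * g * (g⁻¹ * f * g) = g⁻¹ * (y * f) * g by group, h2]; group
    have hf' := conj_mem_c1 hg hfτ
    have e1 := h.sw_not_comm s hs hy'
    have e3 := key g hg
    generalize g⁻¹ * y * g = y' at *
    generalize g⁻¹ * f * g = f' at *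
    rcases h.hf.conj_v (h.le_M s ht hf') hf' with e | e
    · exact S _ hf' (mem_c1.2 (mul_inv_eq_iff_eq_mul.1 e)) e3
    · refine S (y' * f') (mul_mem hy' hf') (mem_c1.2 (mul_inv_eq_iff_eq_mul.1 ?_)) ?_
      · calc y' * f' * v * (y' * f')⁻¹ = y' * (f' * v * f'⁻¹) * y'⁻¹ := by group
          _ = (y' * τ * y'⁻¹) * (y' * v * y'⁻¹) := by rw [e]; group
          _ = v := by rw [conj_τ hy', e1, h.hf.tw]
      · calc y' * f' * (y' * f') = y' * (f' * y') * f' := by group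
          _ = (y' * y') * (f' * f') := by rw [← hc]; group
          _ = τ := by rw [hyy, e3, one_mul]

omit s [Finite Ω] in
theorem syl_top (hone : ∀ y : G, orderOf y = 2 → IsConj τ y) {S : Subgroup G} (hS : IsSylowIn 2 S C1[τ]) :
    IsSylowIn 2 S ⊤ := by
  obtain ⟨T, hT, hle⟩ := exists_isSylowIn_ge h.hf.isPGroup le_top
  obtain ⟨z, -, hz, hc⟩ := pg_exists_fixed_of_order_p hT.isPGroup hT.isPGroup le_normalizer
    fun e => h.hf.t_ne ((e ▸ hle) (left_mem_four τ v))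
  obtain ⟨g, e⟩ := isConj_iff.1 (hone z hz).symm
  refine hT.of_card_ge hS.isPGroup le_top (Nat.le_of_dvd Nat.card_pos ?_)
  rw [← card_map_conj T g]
  refine hS.card_dvd (hT.isPGroup.map _) ?_
  rw [← e, c1_conj]
  exact map_mono (le_c1_iff.2 hc)

theorem dihS (hn : Nat.card Ω % 2 = 1) : Dih2 G := by
  have hi : (F1 Ω τ).ncard % 2 = 1 := h.par_ni ▸ hn
  have hf := h.ff s
  set f := t * v with hfdef
  have hτ : ∀ y : G, y * y = τ → y ∈ C1[τ] := fun y hy => mem_c1.2 (by rw [← hy, mul_assoc])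
  have h4 : ∀ y : G, y * y = τ → y ^ 2 ^ 2 = 1 := fun y hy => by rw [pow_four', hy, h.hf.tt]
  have hfi : f⁻¹ * f⁻¹ = τ := by rw [← mul_inv_rev, hf, h.hf.t_inv]
  have hne : f ≠ f⁻¹ := fun e => h.hf.t_ne (by rw [← hf]; nth_rw 2 [e]; exact mul_inv_cancel f)
  have hvf : v * f * v⁻¹ = f⁻¹ := by
    rw [hfdef, mul_inv_rev, h.hf.v_inv, inv_eq_of_orderOf_two (h.t_ord s), mul_assoc, mul_assoc, h.hf.vv, mul_one]
  have hN : four τ v ≤ N[zpowers f] := four_le_iff.2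
    ⟨centralizer_le_normalizer _ (by rw [centralizer_zpowers]; exact mem_c1_symm (hτ f hf)),
      mem_normalizer_of_map_conj_eq (by
        rw [MonoidHom.map_zpowers]; exact (congrArg zpowers hvf).trans zpowers_inv)⟩
  obtain ⟨S, hS, hle⟩ := exists_isSylowIn_ge (K := C1[τ]) (IsPGroup.to_sup_of_normal_right'
    h.hf.isPGroup (isPGroup_zpowers_of_pow (h4 f hf)) hN) (sup_le h.Vc (zpowers_le.2 (hτ f hf)))
  have hfS : f ∈ S := hle (mem_sup_right (mem_zpowers f))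
  have hτS : τ ∈ S := hle (mem_sup_left (left_mem_four τ v))
  obtain ⟨x, hx, hxS⟩ := exists_fix hS.isPGroup (F := F1 Ω τ) (fun g hg => h.w1.inv g (hS.le hg)) (by omega)
  have hcnt := h.w1.cnt_one (D := {y | y * y = τ}) (fun g hg y hy => by
      rw [Set.mem_ofPred_eq, show g * y * g⁻¹ * (g * y * g⁻¹) = g * (y * y) * g⁻¹ by group, hy, conj_τ hg])
    (fun y hy => ncard_fx_one (h4 y hy) (fun g hg => h.w1.inv g (zpowers_le.2 (hτ y hy) hg)) hi
      (h.uniq_of_sq (fun e => h.hf.t_ne (hy.symm.trans e)) (h4 y hy))) hτ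
    (fun y hy x hx => by rw [← mul_smul, hy, hx.2]) hx
  have hc2 : {d | d ∈ {y : G | y * y = τ} ∧ d • a = b ∧ d • b = a}.ncard ≤ 2 := by
    refine le_trans (Set.ncard_le_ncard (t := {f, t * (τ * v)}) fun y hy => ?_) ((Set.ncard_insert_le _ _).trans (by rw [Set.ncard_singleton]))
    rcases h.sw_cases s hy.2 (hτ y hy.1) with (e | e) | e
    · exact absurd (by rw [← hy.1, e, s.tt]) h.hf.t_ne
    · refine absurd ?_ h.hf.t_ne
      rw [← hy.1, e, mul_assoc, ← mul_assoc τ, ← mem_c1.1 s.cτ, mul_assoc, h.hf.tt, mul_one, s.tt]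
    · exact e
  have hff : ({f, f⁻¹} : Set G) = {d | d ∈ {y : G | y * y = τ} ∧ d • x = x} :=
    Set.eq_of_subset_of_ncard_le (by
      rintro _ (rfl | rfl)
      exacts [⟨hf, hxS _ hfS⟩, ⟨hfi, hxS _ (inv_mem hfS)⟩]) (by rw [hcnt, Set.ncard_pair hne]; exact hc2)
  have key : ∀ y ∈ S, y * y = τ → y = f ∨ y = f⁻¹ := fun y hy e =>
    (hff ▸ ⟨e, hxS y hy⟩ : y ∈ ({f, f⁻¹} : Set G))
  have kconj : ∀ y ∈ S, y ∉ S ⊓ C1[f] → y * f * y⁻¹ = f⁻¹ := fun y hy hy' =>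
    (key _ (mul_mem (mul_mem hy hfS) (inv_mem hy)) (by
      rw [show y * f * y⁻¹ * (y * f * y⁻¹) = y * (f * f) * y⁻¹ by group, hf, conj_τ (hS.le hy)])).resolve_left
      fun e => hy' ⟨hy, mem_c1.2 (mul_inv_eq_iff_eq_mul.1 e)⟩
  have huZ : ∀ y ∈ S ⊓ C1[f], orderOf y = 2 → y = τ := fun y hy e =>
    h.uniq_inv s hf e (hS.le hy.1) (mem_c1.1 hy.2)
  have hcyc : IsCyclic ↥(S ⊓ C1[f]) := isCyclic_of_central_four hS.isPGroup.to_inf_left
    (fun x y hx hy => Subtype.ext ((huZ x x.2 (by rwa [Subgroup.orderOf_coe])).trans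
      (huZ y y.2 (by rwa [Subgroup.orderOf_coe])).symm)) (f := ⟨f, hfS, self_mem_c1 f⟩)
    (fun e => h.hf.t_ne (hf.symm.trans (congrArg Subtype.val e))) fun z => Subtype.ext (mem_c1.1 z.2.2)
  obtain ⟨z, hz⟩ := (Subgroup.isCyclic_iff_exists_zpowers_eq_top _).1 hcyc
  have kmul : ∀ x ∈ S, ∀ y ∈ S, x ∉ S ⊓ C1[f] → y ∉ S ⊓ C1[f] → x * y ∈ S ⊓ C1[f] := fun x hx y hy h1 h2 =>
    ⟨mul_mem hx hy, mem_c1.2 (mul_inv_eq_iff_eq_mul.1 (by
      calc x * y * f * (x * y)⁻¹ = x * (y * f * y⁻¹) * x⁻¹ := by group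
        _ = (x * f * x⁻¹)⁻¹ := by rw [kconj y hy h2]; group
        _ = f := by rw [kconj x hx h1, inv_inv]))⟩
  refine dih2_of_gen (h.syl_top (fun y => h.oneS s) hS) (c := z)
    ⟨(hz.le (mem_zpowers z)).1, fun y hy hy' => ?_, fun x hx y hy h1 h2 => ?_⟩
  · rw [hz] at hy'
    obtain ⟨n, hn⟩ := hS.isPGroup ⟨y, hy⟩
    replace hn : y ^ 2 ^ n = 1 := congrArg Subtype.val hn
    have aux : ∀ (n : ℕ) (u : G), u ∈ S → u ∈ C1[f] → u ∈ C1[y] → u ^ 2 ^ n = 1 → u * u = 1 := fun n => by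
      induction n with
      | zero => intro u _ _ _ e; rw [pow_zero, pow_one] at e; rw [e, one_mul]
      | succ n ih =>
        intro u u1 u2 u3 e
        by_contra hc
        have := huZ _ ⟨mul_mem u1 u1, mul_mem u2 u2⟩ (orderOf_two_of_mul_self hc
          (ih (u * u) (mul_mem u1 u1) (mul_mem u2 u2) (mul_mem u3 u3) (by rw [← sq, ← pow_mul, ← pow_succ', e])))
        refine hy' ⟨hy, mem_c1_symm ?_⟩
        rcases key u u1 this with rfl | e
        · exact u3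
        · exact (Subgroup.inv_mem_iff _).1 (e ▸ u3)
    have hyy := kmul y hy y hy hy' hy'
    have := aux n (y * y) hyy.1 hyy.2 (mul_mem (self_mem_c1 y) (self_mem_c1 y)) (by
      rw [← sq, ← pow_mul, mul_comm, pow_mul, hn, one_pow])
    by_contra hc
    rcases key y hy (huZ _ hyy (orderOf_two_of_mul_self hc this)) with e | e
    · exact hy' (by rw [e]; exact ⟨hfS, self_mem_c1 f⟩)
    · exact hy' (by rw [e]; exact inv_mem (⟨hfS, self_mem_c1 f⟩ : f ∈ S ⊓ C1[f]))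
  · rw [hz] at h1 h2 ⊢
    exact kmul x hx y hy h1 h2

omit s [Finite Ω] in
theorem dvd_of_normal {N : Subgroup G} (hn : N.Normal) (h0 : N ≠ ⊥) : Nat.card Ω ∣ Nat.card N := by
  rw [card_orb N a (B := Set.univ) fun x => ⟨fun _ => h.normal_trans hn h0 x, fun _ => trivial⟩, Set.ncard_univ]
  exact dvd_mul_right _ _

theorem a7S (hn : Nat.card Ω % 2 = 1) (hO : pPrimeCore 2 G = ⊥) :
    Nonempty (G ≃* alternatingGroup (Fin 7)) := by
  have hns : ¬ Group.IsSolvable G := fun hs => by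
    obtain ⟨q, hq, h1⟩ := exists_pCore_ne_bot_of_isSolvable (N := (⊤ : Subgroup G)) inferInstance
      (fun e => h.hf.t_ne (e.le (mem_top τ))) ((isSolvable_congr topEquiv).2 hs)
    rw [top_inf_eq] at h1
    have := Fact.mk hq
    by_cases e : q = 2
    · subst e
      obtain ⟨k, hk⟩ := IsPGroup.iff_card.1 (isPGroup_pCore (p := 2) (G := G))
      have h3 := h.dvd_of_normal inferInstance h1
      obtain ⟨l, -, hl⟩ := (Nat.dvd_prime_pow Nat.prime_two).1 (hk ▸ h3)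
      have h4 := h.t2.two_le
      rw [Set.ncard_univ] at h4
      rcases l with _ | l
      · omega
      · rw [pow_succ] at hl; omega
    · exact h1 (eq_bot_iff.2 (hO ▸ le_pPrimeCore inferInstance
        (Nat.coprime_two_right.2 (odd_of_isPGroup e isPGroup_pCore))))
  have hi : (F1 Ω τ).ncard % 2 = 1 := h.par_ni ▸ hn
  obtain ⟨L, hL, -, -, h2 | h2⟩ := (h.dihS s hn).exists_almS hO hns
  swap
  · exact (a7_top hL h2 ▸ h2).of_equiv topEquiv
  exfalso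
  have hn := hL.normal
  have hvL : τ * v ∈ L := l2_commutator hL h2 (by
    have : τ * v = ⁅ρ, τ⁆ := by rw [commutatorElement_def, h.rot1, h.hf.t_inv, h.hf.comm]
    rw [this]
    exact commutator_mem_commutator (mem_top _) (mem_top _))
  have hm : ∀ j, orderOf j = 2 → j ∈ L := fun j hj => by
    obtain ⟨g, rfl⟩ := isConj_iff.1 (h.conj_w.symm.trans (h.oneS s hj))
    exact hn.conj_mem _ hvL g
  have hf := h.ff s
  have hfL : t * v ∈ L := mul_mem (hm t (h.t_ord s)) (hm v h.hf.hv)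
  generalize t * v = f at hf hfL
  have h4 : f ^ 2 ^ 2 = 1 := by rw [pow_four', hf, h.hf.tt]
  have hfτ : f ∈ C1[τ] := mem_c1.2 (by rw [← hf, mul_assoc])
  have hu := h.uniq_of_sq (fun e => h.hf.t_ne (hf.symm.trans e)) h4
  obtain ⟨x, hx⟩ := Set.ncard_eq_one.1 (ncard_fx_one h4 (fun g hg => h.w1.inv g (zpowers_le.2 hfτ hg)) hi hu)
  have hx' : x ∈ fx (F1 Ω τ) f := hx ▸ rfl
  obtain ⟨F, _, _, -, ⟨m⟩⟩ := L2.exists_mod hL h2
  obtain ⟨T, hT⟩ := m.mem_L.1 (hm τ h.hf.ht)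
  have hr := hT ▸ m.rep_π T
  refine h.w1.not_fix hx'.1 fun g hg => hu _ ⟨h.w1.inv g hg x hx'.1, ?_⟩ _ hx'
  have key : ∀ u ∈ L, u * u = τ → u ∈ (L2.tor (T : Matrix (Fin 2) (Fin 2) F)).map m.π := fun u hu e =>
    hr.mem_map_tor hu (by rw [← e, mul_assoc]) fun e' => h.hf.t_ne (e.symm.trans (mul_self_of_orderOf_two e'))
  have hg2 : g⁻¹ * f * g * (g⁻¹ * f * g) = τ := by
    rw [show g⁻¹ * f * g * (g⁻¹ * f * g) = g⁻¹ * (f * f) * g⁻¹⁻¹ by group, hf, conj_τ (inv_mem hg)]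
  obtain ⟨A, hA, e1⟩ := key f hfL hf
  obtain ⟨B, hB, e2⟩ := key _ (by simpa using hn.conj_mem _ hfL g⁻¹) hg2
  have hc : g⁻¹ * f * g * f = f * (g⁻¹ * f * g) := by
    rw [← e2, ← e1, ← map_mul, ← map_mul, L2.tor_comm m.two (hr.trace_eq h.hf.ht) hr.1 hB hA]
  have := hu _ ⟨h.w1.inv _ (conj_mem_c1 hg hfτ) x hx'.1, fix_of_comm hx'.2 hc⟩ _ hx'
  rwa [conj_smul'', inv_smul_eq_iff] at this

end Hyp

end Cfsg.Lib.TP
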