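import Cfsg.Agent.Lib.TwoPt.Small
import Cfsg.Agent.Lib.Golay.ProjPerm

/-!
# The affine group of the plane over the field with four elements
-/

set_option autoImplicit false

namespace Cfsg.Lib.TP
open Subgroup Cfsg.Lib Cfsg.Lib.FT Cfsg.Lib.GW MulAction Cfsg.Lib.PC QuadraticAlgebra
open Cfsg.Lib.BSW (mul_self_of_orderOf_two orderOf_two_of_mul_self inv_eq_of_orderOf_two)

theorem exists_coord {V : Type*} [AddCommGroup V] (h2 : ∀ x : V, 2 • x = 0) (hc : Nat.card V = 16)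
    (T : V →+ V) (hT : ∀ x, T (T x) = x + T x) : ∃ e : V ≃+ (Fin 2 → F4), ∀ x, e (T x) = (ω : F4) • e x := by
  let _ := AddCommGroup.zmodModule h2
  let φ : F4 →ₐ[ZMod 2] Module.End (ZMod 2) V := QuadraticAlgebra.lift ⟨T.toZModLinearMap 2, by
    ext x
    simpa using hT x⟩
  let _ : Module F4 V := Module.compHom V φ.toRingHom
  have : Finite V := Nat.finite_of_card_ne_zero (by omega)
  have hr : Module.finrank F4 V = 2 := by
    have := Module.natCard_eq_pow_finrank (K := F4) (V := V)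
    rw [hc, Nat.card_eq_fintype_card, card_F4] at this
    exact Nat.pow_right_injective (show 2 ≤ 4 by norm_num) this.symm
  refine ⟨(Module.finBasisOfFinrankEq F4 V hr).equivFun.toAddEquiv, fun x => ?_⟩
  rw [show T x = (ω : F4) • x by change _ = φ ω x; simp [φ]]
  exact map_smul (Module.finBasisOfFinrankEq F4 V hr).equivFun _ _

theorem smul_of_omega {W : Type*} [AddCommGroup W] [Module F4 W] (L : W ≃+ W)
    (h : ∀ x, L ((ω : F4) • x) = (ω : F4) • L x) (c : F4) (x : W) : L (c • x) = c • L x := by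
  have : ∀ c : F4, c = 0 ∨ c = 1 ∨ c = ω ∨ c = 1 + ω := by decide
  rcases this c with rfl | rfl | rfl | rfl <;> simp [add_smul, h]

theorem card_aff : Finite ((Fin 2 → F4) ≃ᵃ[F4] (Fin 2 → F4)) ∧
    Nat.card ((Fin 2 → F4) ≃ᵃ[F4] (Fin 2 → F4)) ≤ 2880 := by
  let e := Matrix.GeneralLinearGroup.toLin.trans (LinearMap.GeneralLinearGroup.generalLinearEquiv F4 (Fin 2 → F4))
  have hi : Function.Injective fun f : (Fin 2 → F4) ≃ᵃ[F4] (Fin 2 → F4) => (f 0, e.symm f.linear) := by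
    intro f g h
    simp only [Prod.mk.injEq, EmbeddingLike.apply_eq_iff_eq] at h
    ext1 x
    rw [show x = x +ᵥ (0 : Fin 2 → F4) from (add_zero x).symm, f.map_vadd, g.map_vadd, h.1, h.2]
  refine ⟨Finite.of_injective _ hi, (Nat.card_le_card_of_injective _ hi).trans (le_of_eq ?_)⟩
  rw [Nat.card_prod, Matrix.card_GL_field, Nat.card_fun, Nat.card_eq_fintype_card, card_F4]
  simp [Fin.prod_univ_two]

variable {G Ω : Type*} [Group G] [MulAction G Ω]

theorem agl_of (faith : ∀ g : G, (∀ x : Ω, g • x = x) → g = 1) (N : Subgroup G) [N.Normal]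
    (h2 : ∀ y ∈ N, y * y = 1) {a : Ω} (reg : Function.Bijective fun y : N => (y : G) • a) {δ : G}
    (hδ : ∀ g : G, g • a = a → g * δ = δ * g) (rel : ∀ y ∈ N, δ * (δ * y * δ⁻¹ * y) * δ⁻¹ = y)
    (hn : Nat.card Ω = 16) (hG : Nat.card G = 2880) :
    Nonempty (G ≃* ((Fin 2 → F4) ≃ᵃ[F4] (Fin 2 → F4))) := by
  have hi : ∀ y ∈ N, y⁻¹ = y := fun y hy => inv_eq_of_mul_eq_one_right (h2 y hy)
  have hc : ∀ y ∈ N, ∀ z ∈ N, y * z = z * y := fun y hy z hz => by
    rw [← hi _ (mul_mem hy hz), mul_inv_rev, hi y hy, hi z hz]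
  let _ : CommGroup N := { (inferInstance : Group N) with mul_comm := fun y z => Subtype.ext (hc y y.2 z z.2) }
  obtain ⟨e, he⟩ := exists_coord (V := Additive N)
    (fun x => by rw [two_nsmul]; exact Subtype.ext (h2 _ x.toMul.2))
    ((Nat.card_eq_of_bijective _ reg).trans hn) (MulEquiv.toAdditive (MulAut.conjNormal δ)).toAddMonoidHom
    fun x => Subtype.ext (by
      change δ * (δ * x.toMul * δ⁻¹) * δ⁻¹ = x.toMul * (δ * x.toMul * δ⁻¹)
      nth_rw 2 [← rel _ x.toMul.2]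
      rw [show δ * (δ * x.toMul * δ⁻¹ * x.toMul) * δ⁻¹ * (δ * x.toMul * δ⁻¹) =
        δ * (δ * x.toMul * δ⁻¹ * ((x.toMul : G) * x.toMul)) * δ⁻¹ by group, h2 _ x.toMul.2, mul_one])
  let ε : (Fin 2 → F4) → G := fun w => (e.symm w).toMul
  let β : (Fin 2 → F4) ≃ Ω := e.symm.toEquiv.trans (Additive.toMul.trans (Equiv.ofBijective _ reg))
  let L : G → (Fin 2 → F4) ≃+ (Fin 2 → F4) := fun g =>
    e.symm.trans ((MulEquiv.toAdditive (MulAut.conjNormal g)).trans e)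
  have e1 : ∀ w, β w = ε w • a := fun _ => rfl
  have e2 : ∀ w w', ε (w + w') = ε w * ε w' := fun w w' => by simp [ε]
  have e3 : ∀ g w, ε (L g w) = g * ε w * g⁻¹ := fun g w => by simp [ε, L]
  have e4 : ∀ w, ε ((ω : F4) • w) = δ * ε w * δ⁻¹ := fun w => by
    obtain ⟨x, rfl⟩ := e.surjective w
    rw [← he]
    simp [ε]
  have e5 : ∀ w, ε w ∈ N := fun w => (e.symm w).toMul.2
  have e6 : Function.Injective ε := fun w w' h => β.injective (by rw [e1, e1, h])
  have e7 : ∀ g w, L g ((ω : F4) • w) = (ω : F4) • L g w := fun g w => e6 (by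
    obtain ⟨n, hn⟩ := reg.2 (g • a)
    have h1 := hδ ((n : G)⁻¹ * g) (by rw [mul_smul, inv_smul_eq_iff]; exact hn.symm)
    have h3 : ∀ y ∈ N, g * y * g⁻¹ = (n : G)⁻¹ * g * y * ((n : G)⁻¹ * g)⁻¹ := fun y hy => by
      have := hc _ n.2 _ (‹N.Normal›.conj_mem y hy g)
      calc g * y * g⁻¹ = (n : G)⁻¹ * (n * (g * y * g⁻¹)) := by group
        _ = _ := by rw [this]; group
    rw [e3, e4, e4, e3, h3 _ (e5 w), h3 _ (‹N.Normal›.conj_mem _ (e5 w) δ)]
    generalize (n : G)⁻¹ * g = k at h1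
    calc k * (δ * ε w * δ⁻¹) * k⁻¹ = (k * δ) * ε w * (k * δ)⁻¹ := by group
      _ = _ := by rw [h1]; group)
  let Φ : G →* ((Fin 2 → F4) ≃ᵃ[F4] (Fin 2 → F4)) := MonoidHom.mk'
    (fun g => AffineEquiv.mk' (fun w => β.symm (g • β w)) ((L g).toLinearEquiv (smul_of_omega _ (e7 g))) 0
      fun w => β.injective (by
        have h0 : ε 0 = 1 := by simp [ε]
        rw [Equiv.apply_symm_apply, vsub_eq_sub, sub_zero, vadd_eq_add, e1 (_ + _), e2, mul_smul, ← e1,
          Equiv.apply_symm_apply, AddEquiv.coe_toLinearEquiv, e3, e1, e1, h0, one_smul, conj_smul']))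
    fun g g' => AffineEquiv.ext fun w => by
      change β.symm _ = β.symm (g • β (β.symm _))
      rw [Equiv.apply_symm_apply, mul_smul]
  have hΦ : Function.Injective Φ := (injective_iff_map_eq_one _).2 fun g hg => faith g fun x => by
    have : β.symm (g • β (β.symm x)) = β.symm x := congrArg (fun f => f (β.symm x)) hg
    simpa using this
  have := card_aff.1
  exact ⟨MulEquiv.ofBijective Φ (hΦ.bijective_of_nat_card_le (hG ▸ card_aff.2))⟩

namespace Hyp

variable {a b : Ω} {τ v ρ c : G} (h : Hyp a b τ v ρ) [Finite G] [Finite Ω]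
include h

omit [Finite Ω] in
theorem exists_delta (hG : Nat.card (stabilizer G a) = 180) (hO : Nat.card (pPrimeCore 2 (stabilizer G a)) = 3) :
    ∃ δ : G, orderOf δ = 3 ∧ δ • a = a ∧ ∀ g : G, g • a = a → g * δ = δ * g := by
  obtain ⟨δ, hδ, e⟩ := exists_mem_orderOf_eq_of_dvd (p := 3) hO.symm.dvd
  have hc := isCyclic_of_prime_card hO
  let f : stabilizer G a →* MulAut (pPrimeCore 2 (stabilizer G a)) := MulAut.conjNormal
  have e1 : Nat.card (MulAut (pPrimeCore 2 (stabilizer G a))) = 2 := by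
    rw [hc.card_mulAut, hO, Nat.totient_prime Nat.prime_three]
  have hc2 := (isCyclic_of_prime_card e1).isMulCommutative
  have cj : ∀ x y z : stabilizer G a, (x : G) * y * x⁻¹ = z → f y = f z := fun x y z e => by
    rw [← show x * y * x⁻¹ = z from Subtype.ext e, map_mul, map_mul, hc2.is_comm.comm (f x), mul_assoc, ← map_mul,
      mul_inv_cancel, map_one, mul_one]
  have e2 := cj ⟨ρ, h.ρK.1⟩ ⟨τ, h.τK.1⟩ ⟨v, h.vK.1⟩ h.rot1
  have e3 := cj ⟨ρ, h.ρK.1⟩ ⟨v, h.vK.1⟩ (⟨τ, h.τK.1⟩ * ⟨v, h.vK.1⟩) h.rot2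
  rw [map_mul, eq_comm, mul_eq_right] at e3
  have e4 : 4 ∣ Nat.card f.ker := by
    rw [← h.hf.card, ← card_map_of_injective (stabilizer G a).subtype_injective]
    exact card_dvd_of_le (four_le_iff.2 ⟨⟨_, e3, rfl⟩, ⟨_, e2.symm.trans e3, rfl⟩⟩)
  have e5 := f.ker.index_mul_card
  have e6 := card_subgroup_dvd_card f.range
  rw [← index_ker, e1] at e6
  have e7 : f.ker = ⊤ := index_eq_one.1 (by
    rcases (Nat.dvd_prime Nat.prime_two).1 e6 with e | e
    · exact e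
    · rw [e, hG] at e5; omega)
  refine ⟨δ, by rw [orderOf_coe, e], δ.2, fun g hg => mul_inv_eq_iff_eq_mul.1 ?_⟩
  have : f ⟨g, hg⟩ = 1 := e7.ge (mem_top _)
  exact congrArg (fun φ : MulAut (pPrimeCore 2 (stabilizer G a)) => ((φ ⟨δ, hδ⟩ : stabilizer G a) : G)) this

theorem aglE (s : CE a b τ v ρ c) (rig : st G a b ≤ C1[c]) (hk : Nat.card (st G a b) = 3 * 4)
    (hn : Nat.card Ω = 16) (hj : (F2 Ω τ v).ncard = 4) (hc : ¬ IsConj τ c)
    (hO : Nat.card (pPrimeCore 2 (stabilizer G a)) = 3) :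
    Nonempty (G ≃* ((Fin 2 → F4) ≃ᵃ[F4] (Fin 2 → F4))) := by
  have hf := h.hf
  obtain ⟨δ, δ3, δa, hδ⟩ := h.exists_delta (by rw [h.card_Ga, hn, hk]) hO
  have δ1 : δ * δ * δ = 1 := by rw [← pow_three', ← δ3, pow_orderOf_eq_one]
  have tr : ∀ x, x ≠ a → ∃ g : G, g • a = a ∧ g • b = x := fun x hx =>
    let ⟨g, _, e⟩ := h.t2.tr a trivial x trivial hx.symm
    ⟨g, e⟩
  have δf : ∀ x, δ • x = x → x = a := fun x hx => by_contra fun hxa => by
    obtain ⟨g, g1, rfl⟩ := tr x hxa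
    rw [← mul_smul, ← hδ g g1, mul_smul, smul_left_cancel_iff] at hx
    rw [h.faith δ fun y => by
      by_cases e : y = a
      · rw [e, δa]
      · obtain ⟨g, g1, rfl⟩ := tr y e
        exact fix_of_comm hx (hδ g g1), orderOf_one] at δ3
    omega
  have ci : c⁻¹ = c := inv_eq_of_mul_eq_one_right s.cc
  -- the four fixed points of the four-group
  have inv : ∀ g ∈ C1[τ], g ∈ C1[v] → ∀ x ∈ F2 Ω τ v, g • x ∈ F2 Ω τ v := fun g g1 g2 =>
    h.w2.inv g ⟨g1, centralizer_le_normalizer _ (centralizer_four τ v ▸ ⟨g1, g2⟩)⟩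
  have δK : ∀ k ∈ st G a b, δ ∈ C1[k] := fun k hk => mem_c1.2 (hδ k hk.1).symm
  have iδ := inv δ (δK τ h.τK) (δK v h.vK)
  have n1 : δ • b ≠ a := fun e => h.t2.ne (smul_left_cancel δ (δa.trans e.symm))
  have n2 : δ • b ≠ b := fun e => h.t2.ne (δf b e).symm
  have n3 : δ • δ • b ≠ a := fun e => n1 (smul_left_cancel δ (e.trans δa.symm))
  have q1 : δ • δ • δ • b = b := by rw [← mul_smul, ← mul_smul, δ1, one_smul]
  have n4 : δ • δ • b ≠ b := fun e => n2 (by rw [e] at q1; exact q1)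
  have n5 : δ • δ • b ≠ δ • b := fun e => n2 (smul_left_cancel δ e)
  have hF : ({a, b, δ • b, δ • δ • b} : Set Ω) = F2 Ω τ v := Set.eq_of_subset_of_ncard_le (by
      rintro _ (rfl | rfl | rfl | rfl)
      exacts [h.w2.ha, h.w2.hb, iδ _ h.w2.hb, iδ _ (iδ _ h.w2.hb)]) (by
    rw [hj, Set.ncard_insert_of_notMem (by simp [h.t2.ne, n1.symm, n3.symm]),
      Set.ncard_eq_three.2 ⟨_, _, _, n2.symm, n4.symm, n5.symm, rfl⟩])
  have ic := inv c s.cτ s.cv
  have cc : ∀ x : Ω, c • c • x = x := fun x => by rw [← mul_smul, s.cc, one_smul]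
  have c1 : ∀ x ∈ F2 Ω τ v, x ≠ a → x ≠ b → c • x = δ • b ∨ c • x = δ • δ • b := fun x hx xa xb => by
    rcases (hF ▸ ic x hx : c • x ∈ ({a, b, δ • b, δ • δ • b} : Set Ω)) with e | e | e
    · exact absurd (by rw [← cc x, e, s.sw.1]) xb
    · exact absurd (by rw [← cc x, e, s.sw.2]) xa
    · exact e
  have c2 : c • δ • b = δ • δ • b := (c1 _ (iδ _ h.w2.hb) n1 n2).resolve_left fun e =>
    n5 (h.uniq_of_not_conj (h.c_ord s) hc _ ⟨trivial, (c1 _ (iδ _ (iδ _ h.w2.hb)) n3 n4).resolve_left fun e' =>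
      n5 (smul_left_cancel c (e'.trans e.symm))⟩ _ ⟨trivial, e⟩)
  have c3 : c • δ • δ • b = δ • b := by rw [← c2, cc]
  have δi : δ⁻¹ = δ * δ := inv_eq_of_mul_eq_one_left δ1
  have rel : δ * (δ * c * δ⁻¹ * c) * δ⁻¹ = c := by
    have hs : Sw a b (δ * (δ * c * δ⁻¹ * c) * δ⁻¹) := by
      constructor <;> simp only [δi, mul_smul, δa, s.sw.1, c3, q1, s.sw.2]
    have hC : ∀ k ∈ st G a b, c * (δ * (δ * c * δ⁻¹ * c) * δ⁻¹) ∈ C1[k] := fun k hk => by
      have p1 := δK k hk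
      have p2 := mem_c1_symm (rig hk)
      exact mul_mem p2 (mul_mem (mul_mem p1 (mul_mem (mul_mem (mul_mem p1 p2) (inv_mem p1)) p2)) (inv_mem p1))
    have p3 := conj_τ (mem_c1_symm (hC ρ h.ρK))
    refine (inv_eq_of_mul_eq_one_right ?_).symm.trans ci
    rcases hf.mem_four.1 (h.cent _ (s.sw.mul hs) (hC τ h.τK)) with e | e | e | e <;> rw [e] at p3 ⊢
    · exact absurd (h.rot1.symm.trans p3) hf.ne
    · exact absurd (h.rot2.symm.trans p3) hf.w_ne_v
    · exact absurd (h.rot3.symm.trans p3).symm hf.w_ne_t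
  -- the class of `c`
  have sq : ∀ y, IsConj c y → y * y = 1 := fun y hy => by
    obtain ⟨g, rfl⟩ := isConj_iff.1 hy
    rw [conj_mul, s.cc]; group
  have uq : ∀ y, IsConj c y → ∀ g : G, y • g • a = g • b → y = g * c * g⁻¹ := fun y hy g e => by
    have : g⁻¹ * y * g ∈ ({c} : Set G) := h.sw_class s rig hc ▸ ⟨hy.trans (isConj_iff.2 ⟨g⁻¹, by group⟩),
      by rw [conj_smul'', e, inv_smul_smul], by rw [conj_smul'', ← e, ← mul_smul y, sq y hy, one_smul, inv_smul_smul]⟩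
    rw [← Set.mem_singleton_iff.1 this]; group
  have fpf : ∀ y, IsConj c y → ∀ x : Ω, y • x ≠ x := fun y hy x e => by
    have ho : orderOf y = 2 := by
      obtain ⟨g, rfl⟩ := isConj_iff.1 hy
      exact ((MulAut.conj g).orderOf_eq c).trans (h.c_ord s)
    have h1 := modEq_fx (F := (Set.univ : Set Ω)) (sq y hy) fun _ _ => trivial
    have h2 := (Set.ncard_le_one (Set.toFinite _)).2 (h.uniq_of_not_conj ho fun e => hc (e.trans hy.symm))
    have h3 := (Set.ncard_pos (Set.toFinite (fx (Set.univ : Set Ω) y))).2 ⟨x, trivial, e⟩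
    rw [Set.ncard_univ, hn] at h1
    omega
  have ga : ∀ y, IsConj c y → ∃ g : G, g • a = a ∧ y = g * c * g⁻¹ := fun y hy => by
    obtain ⟨g, g1, g2⟩ := tr _ (fpf y hy a)
    exact ⟨g, g1, uq y hy g (by rw [g1, g2])⟩
  have m1 : ∀ y, IsConj c y → ∃ g : G, y * δ = g * δ * g⁻¹ := fun y hy => by
    obtain ⟨g, g1, rfl⟩ := ga y hy
    refine ⟨g * (δ * c), ?_⟩
    have : c * δ = δ * c * δ * (δ * c)⁻¹ :=
      calc c * δ = (δ * (δ * c * δ⁻¹ * c⁻¹) * δ⁻¹)⁻¹ * δ := by rw [ci, rel, ci]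
        _ = _ := by group
    calc g * c * g⁻¹ * δ = g * c * (δ * g⁻¹) := by rw [mul_assoc, hδ g⁻¹ (by rw [inv_smul_eq_iff, g1])]
      _ = g * (c * δ) * g⁻¹ := by group
      _ = _ := by rw [this]; group
  have m2 : ∀ g g' : G, g * δ * g⁻¹ * (g' * δ * g'⁻¹)⁻¹ = 1 ∨ IsConj c (g * δ * g⁻¹ * (g' * δ * g'⁻¹)⁻¹) := by
    intro g g'
    have key : ∀ l l' : G, l • a = l' • a → l * δ * l⁻¹ = l' * δ * l'⁻¹ := fun l l' e => by
      have := hδ (l'⁻¹ * l) (by rw [mul_smul, e, inv_smul_smul])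
      calc l * δ * l⁻¹ = l' * (l'⁻¹ * l * δ) * l⁻¹ := by group
        _ = _ := by rw [this]; group
    by_cases e : g • a = g' • a
    · exact Or.inl (by rw [key g g' e, mul_inv_cancel])
    obtain ⟨l, -, l1, l2⟩ := h.t2.tr _ trivial _ trivial e
    refine Or.inr (isConj_iff.2 ⟨l * δ⁻¹, ?_⟩)
    rw [← key l g l1, ← key (l * c) g' (by rw [mul_smul, s.sw.1, l2])]
    calc _ = l * δ⁻¹ * (δ * (δ * c * δ⁻¹ * c⁻¹) * δ⁻¹) * (l * δ⁻¹)⁻¹ := by rw [ci, rel]
      _ = _ := by group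
  let N : Subgroup G :=
    { carrier := {y | y = 1 ∨ IsConj c y}
      one_mem' := Or.inl rfl
      inv_mem' := fun {y} hy => hy.elim (fun e => Or.inl (by rw [e, inv_one])) fun e =>
        Or.inr (by rwa [inv_eq_of_mul_eq_one_right (sq y e)])
      mul_mem' := fun {y z} hy hz => by
        rcases hy with rfl | hy
        · rwa [one_mul]
        rcases hz with rfl | hz
        · exact Or.inr (by rwa [mul_one])
        obtain ⟨g, e1⟩ := m1 y hy
        obtain ⟨g', e2⟩ := m1 z hz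
        have := m2 g g'
        rwa [← e1, ← e2, mul_inv_rev, inv_eq_of_mul_eq_one_right (sq z hz), mul_assoc, mul_inv_cancel_left] at this }
  have : N.Normal := ⟨fun y hy g => hy.imp (fun e => by rw [e]; group) fun e => e.trans (isConj_iff.2 ⟨g, rfl⟩)⟩
  refine agl_of h.faith N (fun y hy => hy.elim (fun e => by rw [e, one_mul]) (sq y)) (a := a)
    ⟨fun y z e => ?_, fun x => ?_⟩ hδ (fun y hy => ?_) hn (by rw [h.card_G, h.card_Ga, hn, hk])
  · rcases (z⁻¹ * y).2 with e' | e'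
    · exact Subtype.ext (inv_mul_eq_one.1 e').symm
    · exact absurd (by rw [coe_mul, mul_smul, show (y : G) • a = (z : G) • a from e, coe_inv, inv_smul_smul])
        (fpf _ e' a)
  · by_cases e : x = a
    · exact ⟨1, by simp [e]⟩
    · obtain ⟨g, g1, g2⟩ := tr x e
      exact ⟨⟨g * c * g⁻¹, Or.inr (isConj_iff.2 ⟨g, rfl⟩)⟩, by
        change (g * c * g⁻¹) • a = x
        nth_rw 1 [← g1]
        rw [conj_smul', s.sw.1, g2]⟩
  · rcases hy with rfl | hy
    · group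
    obtain ⟨g, g1, rfl⟩ := ga y hy
    have e : g * δ * g⁻¹ = δ := mul_inv_eq_iff_eq_mul.2 (hδ g g1)
    nth_rw 3 [← rel]
    nth_rw 1 2 3 4 [← e]
    group

end Hyp

end Cfsg.Lib.TP
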