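import Cfsg.Agent.Lib.TwoPt.OddE

/-!
# Even degree
-/

set_option autoImplicit false

namespace Cfsg.Lib.TP
open Subgroup Cfsg.Lib Cfsg.Lib.FT Cfsg.Lib.GW MulAction
open Cfsg.Lib.BSW (mul_self_of_orderOf_two orderOf_two_of_mul_self inv_eq_of_orderOf_two)

variable {G Ω : Type*} [Group G] [MulAction G Ω]

theorem ar2 {k d j w x : ℤ} (hk : k = 3 ∨ k = 15) (hd : d = k ∨ d = k + 1) (hw : 1 ≤ w) (hx : 1 ≤ x)
    (hj : 2 ≤ j) (h3 : j % 3 ≠ 0) (e : w * x = j + 1)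
    (h : k + d * j ^ 2 = (8 * w ^ 2 + 6 * w + 1) * x ^ 2 ∨ k + d * j ^ 2 = (8 * w ^ 2 - 6 * w + 1) * x ^ 2) :
    False := by
  obtain rfl : j = w * x - 1 := by omega
  have hw5 : w ≤ 5 := by
    by_contra hc
    have h1 : 6 * x ≤ w * x := by nlinarith
    have h2 : 6 * (w * x ^ 2) ≤ (w * x) ^ 2 := by nlinarith
    rcases hk with rfl | rfl <;> rcases hd with rfl | rfl <;> rcases h with h | h <;> nlinarith
  have hx' : x ≤ 31 := by
    by_contra hc
    interval_cases w <;> rcases hk with rfl | rfl <;> rcases hd with rfl | rfl <;> rcases h with h | h <;> nlinarith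
  interval_cases w <;> rcases hk with rfl | rfl <;> rcases hd with rfl | rfl <;> interval_cases x <;> omega

theorem ar4 {k j w x : ℤ} (hk : k = 3 ∨ k = 15) (hw : 1 ≤ w) (hx : 1 ≤ x)
    (hj : 2 ≤ j) (e : w * x = 2 * j + 1)
    (h : k + (k + 1) * (j * (2 * j - 1)) = (8 * w ^ 2 + 6 * w + 1) * x ^ 2 ∨
      k + (k + 1) * (j * (2 * j - 1)) = (8 * w ^ 2 - 6 * w + 1) * x ^ 2) : False := by
  have h1 : w * x ^ 2 ≤ (w * x) ^ 2 := by nlinarith
  have h2 : (w * x) ^ 2 = (2 * j + 1) ^ 2 := by rw [e]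
  rcases hk with rfl | rfl
  · rcases h with h | h <;> nlinarith
  · rcases h with h | h
    · nlinarith
    · have h3 : (6 * w - 1) * x ^ 2 - 24 * (w * x) + 31 = 0 := by nlinarith
      have hx' : x ≤ 4 := by
        by_contra hc
        nlinarith
      interval_cases x <;> omega

theorem card_c1_subtype {X : Subgroup G} (K : Subgroup G) :
    Nat.card (K.subgroupOf X) = Nat.card ↥(K ⊓ X) := by
  rw [← inf_subgroupOf_right, Nat.card_congr (subgroupOfEquivOfLe inf_le_right).toEquiv]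

theorem c1_subtype {X : Subgroup G} (y : X) : C1[y] = C1[(y : G)].subgroupOf X := by
  ext g
  rw [mem_subgroupOf, mem_c1, mem_c1, Subtype.ext_iff]
  rfl

namespace Hyp

variable {a b : Ω} {τ v ρ : G} (h : Hyp a b τ v ρ) [Finite G] [Finite Ω]
include h

/-- the counting lemma applied to the point stabilizer -/
theorem evcount (hn : Nat.card Ω % 2 = 0) {k : ℕ} (hk : Nat.card (st G a b) = k * 4) :
    ∃ w x : ℕ, 1 ≤ w ∧ 1 ≤ x ∧ (F1 Ω τ).ncard - 1 = w * x * ((F2 Ω τ v).ncard - 1) ∧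
      ((((k + {y | IsConj τ y ∧ Sw a b y}.ncard * (F1 Ω τ).ncard : ℕ) : ℤ) = (8 * w ^ 2 + 6 * w + 1) * x ^ 2 ∧
        (w = 1 → Nat.card (stabilizer G a) = 60 * Nat.card (pPrimeCore 2 (stabilizer G a)))) ∨
       ((k + {y | IsConj τ y ∧ Sw a b y}.ncard * (F1 Ω τ).ncard : ℕ) : ℤ) = (8 * w ^ 2 - 6 * w + 1) * x ^ 2) := by
  have e0 := h.card_Ga
  have e1 := h.E1 hk
  have e2 := h.two_le_i
  have e3 := h.i_lt_n
  have h8 : ¬ 8 ∣ Nat.card (stabilizer G a) := fun hd => h.h8 (by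
    rw [e0] at hd
    exact (Nat.Coprime.pow_left 3 (Nat.coprime_two_left.2 (Nat.odd_iff.2 (by omega)))).dvd_of_dvd_mul_left hd)
  obtain ⟨τ', hτ⟩ : ∃ τ' : stabilizer G a, (τ' : G) = τ := ⟨⟨τ, h.τK.1⟩, rfl⟩
  obtain ⟨v', hv⟩ : ∃ v' : stabilizer G a, (v' : G) = v := ⟨⟨v, h.vK.1⟩, rfl⟩
  have hf : Four τ' v' := ⟨by rw [← orderOf_coe, hτ, h.hf.ht], by rw [← orderOf_coe, hv, h.hf.hv],
    fun e => h.hf.ne (by rw [← hv, e, hτ]), Subtype.ext (by simpa [hτ, hv] using h.hf.comm)⟩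
  obtain ⟨w, x, hw, hx, c1, c2⟩ := gw_count hf h8
    (isConj_iff.2 ⟨⟨ρ, h.ρK.1⟩, Subtype.ext (by simpa [hτ, hv] using h.rot1)⟩)
    (isConj_iff.2 ⟨⟨ρ, h.ρK.1⟩, Subtype.ext (by simpa [hτ, hv] using h.rot3)⟩).symm
  have c3 : Nat.card C1[τ'] = ((F1 Ω τ).ncard - 1) * 4 := by rw [c1_subtype, card_c1_subtype, hτ, h.card_Ca]
  have c4 : Nat.card ↥(C1[τ'] ⊓ C1[v']) = ((F2 Ω τ v).ncard - 1) * 4 := by
    rw [c1_subtype, c1_subtype, subgroupOf, subgroupOf, ← comap_inf, ← subgroupOf, card_c1_subtype, hτ, hv,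
      ← h.card_Ma]
    congr 2
    refine le_antisymm (fun g hg => ⟨⟨hg.1.1, centralizer_le_normalizer _ (centralizer_four τ v ▸ hg.1)⟩, hg.2⟩)
      fun g hg => ⟨⟨hg.1.1, mem_c1.2 (mul_inv_eq_iff_eq_mul.1 ((h.hf.conj_v hg.1.2 hg.1.1).resolve_right
        fun e => h8 (eight_of_swap h.hf (h.VK.trans inf_le_left) hg.2 hg.1.1 e)))⟩, hg.2⟩
  rw [c3, c4, ← mul_assoc] at c1
  have key : ∀ l, Nat.card (stabilizer G a) = l * Nat.card C1[τ'] →
      k + {y | IsConj τ y ∧ Sw a b y}.ncard * (F1 Ω τ).ncard = l := fun l hl => by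
    rw [c3, e0, hk, ← mul_assoc, ← mul_assoc] at hl
    refine Nat.eq_of_mul_eq_mul_right (show 0 < (F1 Ω τ).ncard - 1 by omega) ?_
    rw [← Nat.eq_of_mul_eq_mul_right (by norm_num) hl, add_mul, mul_assoc, ← e1, ← mul_add, mul_comm]
    congr 1
    omega
  refine ⟨w, x, hw, hx, Nat.eq_of_mul_eq_mul_right (by norm_num) c1,
    c2.imp (fun e => ⟨?_, e.2⟩) fun e => ?_⟩ <;> rw [key _ e.1]
  · push_cast; ring
  · obtain ⟨w, rfl⟩ : ∃ u, w = u + 1 := ⟨w - 1, by omega⟩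
    rw [show 4 * (w + 1) - 1 = 4 * w + 3 by omega, show 2 * (w + 1) - 1 = 2 * w + 1 by omega]
    push_cast; ring

/-- in the non-central case the four-group fixes only two points -/
theorem jS {t : G} (s : CS a b τ v t) (hn : Nat.card Ω % 2 = 0) : (F2 Ω τ v).ncard = 2 := by
  have hj : (F2 Ω τ v).ncard % 2 = 0 := h.par_ij ▸ h.par_ni ▸ hn
  have e0 := h.two_le_j
  have hf := h.hf
  obtain ⟨T, hT, hle⟩ := exists_isSylowIn_ge (K := C1[τ] ⊓ C1[v]) hf.isPGroup hf.le_c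
  have aux : ∀ (n : ℕ) (u : G), u ∈ C1[τ] ⊓ C1[v] → u ^ 2 ^ n = 1 → u ∈ four τ v := fun n => by
    induction n with
    | zero => intro u _ e; rw [pow_zero, pow_one] at e; exact e ▸ one_mem _
    | succ n ih =>
      intro u u1 e
      exact h.S1 s u1.1 u1.2 (ih (u * u) (mul_mem u1 u1) (by rw [← sq, ← pow_mul, ← pow_succ', e]))
  have hTV : T = four τ v := le_antisymm (fun u hu => by
    obtain ⟨n, hn⟩ := hT.isPGroup ⟨u, hu⟩
    exact aux n u (hT.le hu) (congrArg Subtype.val hn)) hle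
  have e1 := relIndex_mul_card hT.le
  have e2 := hT.not_dvd_relIndex
  have hCM : C1[τ] ⊓ C1[v] ≤ MM τ v :=
    le_inf inf_le_left (by rw [← centralizer_four]; exact centralizer_le_normalizer _)
  have key : ∀ x ∈ MM τ v, x ∉ C1[τ] ⊓ C1[v] → x * v * x⁻¹ = τ * v :=
    fun x hx h => (hf.conj_v hx.2 hx.1).resolve_left fun e => h ⟨hx.1, mem_c1.2 (mul_inv_eq_iff_eq_mul.1 e)⟩
  have e3 : (C1[τ] ⊓ C1[v]).relIndex (MM τ v) = 2 := by
    refine DD.relIndex_two (a := t) ⟨s.cτ, Four.mem_normalizer (by rw [conj_τ s.cτ]; exact left_mem_four τ v)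
      (by rw [s.cv]; exact mul_mem (left_mem_four τ v) (right_mem_four τ v))⟩
      (fun e => hf.w_ne_v (s.cv.symm.trans (conj_τ e.2))) fun x hx y hy h1 h2 =>
        ⟨mul_mem hx.1 hy.1, mem_c1.2 (mul_inv_eq_iff_eq_mul.1 ?_)⟩
    calc x * y * v * (x * y)⁻¹ = x * (y * v * y⁻¹) * x⁻¹ := by group
      _ = (x * τ * x⁻¹) * (x * v * x⁻¹) := by rw [key y hy h2]; group
      _ = v := by rw [key x hx h1, conj_τ hx.1, hf.tw]
  have e4 := relIndex_mul_card hCM
  rw [e3, ← e1, h.card_M, hTV, hf.card] at e4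
  rw [hTV] at e2
  obtain ⟨m, hm⟩ : ∃ m, (F2 Ω τ v).ncard = 2 * m := ⟨_, (Nat.mul_div_cancel' (Nat.dvd_of_mod_eq_zero hj)).symm⟩
  by_contra hc
  have hr := Fact.mk (Nat.minFac_prime (n := m) (by omega))
  refine h.not_dvd_j hj (r := m.minFac) (fun e => e2 ?_) (hm ▸ (Nat.minFac_dvd m).mul_left 2)
  have : (four τ v).relIndex (C1[τ] ⊓ C1[v]) = m * ((F2 Ω τ v).ncard - 1) := by
    rw [hm] at e4 ⊢
    linarith
  rw [this]
  exact (e ▸ Nat.minFac_dvd m).mul_right _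

theorem iS {t : G} (s : CS a b τ v t) (hn : Nat.card Ω % 2 = 0) : (F1 Ω τ).ncard = 2 ∨ (F1 Ω τ).ncard = 4 := by
  have e1 := h.E2
  have e2 := h.two_le_i
  rw [h.deltaS s, h.jS s hn] at e1
  split_ifs at e1 <;> omega

/-- the central case in even degree -/
theorem evenE {c : G} (s : CE a b τ v ρ c) (rig : st G a b ≤ C1[c]) (hn : Nat.card Ω % 2 = 0) {k : ℕ}
    (hk : Nat.card (st G a b) = k * 4) (hk' : k = 3 ∨ k = 15) :
    k = 3 ∧ Nat.card Ω = 16 ∧ (F2 Ω τ v).ncard = 4 ∧ ¬ IsConj τ c ∧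
      Nat.card (pPrimeCore 2 (stabilizer G a)) = 3 := by
  have hj : (F2 Ω τ v).ncard % 2 = 0 := h.par_ij ▸ h.par_ni ▸ hn
  have h3 := h.not_dvd_j hj (r := 3) (by norm_num)
  obtain ⟨w, x, hw, hx, e1, e2⟩ := h.evcount hn hk
  have e3 := h.E2
  have e4 := h.dE s rig hk
  have e5 := h.two_le_j
  have e6 : (F2 Ω τ v).ncard ≤ (F1 Ω τ).ncard := j_le_i
  have e7 := h.E1 hk
  have e8 := h.card_Ga
  have e9 := h.i_lt_n
  have p1 : c ∈ D2 τ v → IsConj τ c ∧ IsConj τ (c * τ) := fun e =>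
    ⟨h.isConj_of_D2 e, mem_c1.1 s.cτ ▸ h.isConj_of_D2 (D2_mul h.hf e)⟩
  have p2 : c * v ∈ D2 τ v → IsConj τ (c * τ) := fun e =>
    (h.isConj_of_D2 e).trans (h.conj_ck s rig h.vK h.hf.hv).symm
  have p3 := h.conj_cτ s rig
  rw [h.deltaE s] at e3
  generalize {y | IsConj τ y ∧ Sw a b y}.ncard = d at *
  generalize (F1 Ω τ).ncard = i at *
  generalize (F2 Ω τ v).ncard = j at *
  obtain ⟨j, rfl⟩ : ∃ u, j = u + 1 := ⟨j - 1, by omega⟩
  rw [Nat.add_sub_cancel] at e1 e3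
  have hk2 : (k : ℤ) = 3 ∨ (k : ℤ) = 15 := by omega
  have two : (d = k ∨ d = k + 1) → 2 * (i - (j + 1)) ≠ 2 * ((j + 1) * j) := fun hd e => by
    obtain rfl : i = (j + 1) ^ 2 := by
      have : i = j + 1 + (j + 1) * j := by omega
      rw [this]; ring
    rw [show (j + 1) ^ 2 - 1 = (j + 2) * j by apply Nat.sub_eq_of_eq_add; ring] at e1
    have := Nat.eq_of_mul_eq_mul_right (by omega) e1
    exact ar2 (d := d) (j := j + 1) (w := w) (x := x) hk2 (by omega) (by omega) (by omega) (by omega) (by omega)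
      (by exact_mod_cast this.symm) (e2.imp (fun e => by rw [← e.1]; push_cast; ring)
        fun e => by rw [← e]; push_cast; ring)
  by_cases q1 : c ∈ D2 τ v <;> by_cases q2 : c * v ∈ D2 τ v
  · rw [if_pos q1, if_pos q2] at e3
    rw [if_pos (p1 q1).1, if_pos (p1 q1).2] at e4
    obtain rfl : i = (j + 1) * (2 * j + 1) := by
      have : i = j + 1 + 2 * ((j + 1) * j) := by omega
      rw [this]; ring
    rw [show (j + 1) * (2 * j + 1) - 1 = (2 * j + 3) * j by apply Nat.sub_eq_of_eq_add; ring] at e1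
    have := Nat.eq_of_mul_eq_mul_right (by omega) e1
    exact (ar4 (j := j + 1) (w := w) (x := x) hk2 (by omega) (by omega) (by omega)
      (by exact_mod_cast this.symm) (e2.imp (fun e => by rw [← e.1, e4]; push_cast; ring)
        fun e => by rw [← e, e4]; push_cast; ring)).elim
  · rw [if_pos q1, if_neg q2] at e3
    rw [if_pos (p1 q1).1, if_pos (p1 q1).2] at e4
    exact (two (by omega) e3).elim
  · rw [if_neg q1, if_pos q2] at e3
    rw [if_pos (p2 q2)] at e4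
    exact (two (by split_ifs at e4 <;> omega) e3).elim
  · rw [if_neg q1, if_neg q2] at e3
    obtain rfl : i = j + 1 := by omega
    have := Nat.eq_of_mul_eq_mul_right (show 0 < j by omega) ((one_mul j).trans e1)
    obtain rfl := Nat.eq_one_of_mul_eq_one_right this.symm
    obtain rfl := Nat.eq_one_of_mul_eq_one_left this.symm
    have hd : 1 ≤ d := by
      by_cases q : IsConj τ c
      · rw [if_pos q] at e4; omega
      · rw [if_neg q, if_pos (p3 q)] at e4; omega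
    have hdj := Nat.mul_le_mul hd e5
    rcases e2 with ⟨e2, e2'⟩ | e2 <;> norm_num at e2 <;> norm_cast at e2
    swap
    · omega
    obtain rfl : k = 3 := by omega
    have hd3 : d = 3 := by
      split_ifs at e4 <;> subst e4 <;> omega
    subst hd3
    obtain rfl : j = 3 := by omega
    have hn : Nat.card Ω = 16 := by omega
    rw [e2' rfl, hn, hk] at e8
    exact ⟨rfl, hn, rfl, fun q => by rw [if_pos q] at e4; split_ifs at e4 <;> omega, by omega⟩

end Hyp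

end Cfsg.Lib.TP
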