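import Cfsg.Agent.Lib.TwoPt.Setup

/-!
# The interchanging involutions
-/

set_option autoImplicit false

namespace Cfsg.Lib.TP
open Subgroup Cfsg.Lib Cfsg.Lib.FT Cfsg.Lib.GW MulAction
open Cfsg.Lib.BSW (mul_self_of_orderOf_two orderOf_two_of_mul_self inv_eq_of_orderOf_two)

variable {G Ω : Type*} [Group G] [MulAction G Ω]

theorem pow_four' (s : G) : s ^ 2 ^ 2 = s * s * (s * s) := by
  rw [sq 2, pow_mul, sq, sq]

theorem modEq_fx' [Finite G] [Finite Ω] {p n : ℕ} [Fact p.Prime] {y : G} (hy : y ^ p ^ n = 1) {F : Set Ω}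
    (h : ∀ g ∈ zpowers y, ∀ x ∈ F, g • x ∈ F) : F.ncard ≡ (fx F y).ncard [MOD p] := by
  have := modEq_fix (isPGroup_zpowers_of_pow hy) h
  rwa [show {x | x ∈ F ∧ ∀ g ∈ zpowers y, g • x = x} = fx F y from ?_] at this
  ext x
  exact and_congr_right fun _ => ⟨fun h => h y (mem_zpowers y),
    fun h g hg => (zpowers_le (H := stabilizer G x)).2 h hg⟩

theorem ncard_fx_one [Finite G] [Finite Ω] {n : ℕ} {y : G} (hy : y ^ 2 ^ n = 1) {F : Set Ω}
    (h : ∀ g ∈ zpowers y, ∀ x ∈ F, g • x ∈ F) (hF : F.ncard % 2 = 1)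
    (hu : ∀ x ∈ fx F y, ∀ x' ∈ fx F y, x = x') : (fx F y).ncard = 1 := by
  have h1 := modEq_fx' hy h
  have h2 := (Set.ncard_le_one (Set.toFinite _)).2 hu
  unfold Nat.ModEq at h1
  omega

theorem exists_moved [Finite Ω] {F : Set Ω} (hF : 2 ≤ F.ncard) {y : G}
    (hu : ∀ x ∈ fx F y, ∀ x' ∈ fx F y, x = x') : ∃ x ∈ F, y • x ≠ x := by
  by_contra! hc
  obtain ⟨x, hx, x', hx', hne⟩ := (Set.one_lt_ncard (Set.toFinite F)).1 hF
  exact hne (hu x ⟨hx, hc x hx⟩ x' ⟨hx', hc x' hx'⟩)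

open Classical in
theorem ncard_sub [Finite G] {τ v : G} (hf : Four τ v) (P : G → Prop) (hP : ∀ w, P (τ * w) ↔ P w) :
    {w | w ∈ four τ v ∧ P w}.ncard = (if P 1 then 2 else 0) + (if P v then 2 else 0) := by
  have h1 : P τ ↔ P 1 := by simpa using hP 1
  have h2 := hP v
  have e : {w | w ∈ four τ v ∧ P w} = (if P 1 then {1, τ} else ∅) ∪ (if P v then {v, τ * v} else ∅) := by
    ext w
    rw [Set.mem_ofPred_eq, hf.mem_four]
    constructor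
    · rintro ⟨rfl | rfl | rfl | rfl, hw⟩
      · simp [hw]
      · simp [h1.1 hw]
      · simp [hw]
      · simp [h2.1 hw]
    · rintro (hw | hw) <;> split_ifs at hw with hh
      · rcases hw with rfl | rfl
        exacts [⟨Or.inl rfl, hh⟩, ⟨Or.inr (Or.inl rfl), h1.2 hh⟩]
      · exact hw.elim
      · rcases hw with rfl | rfl
        exacts [⟨Or.inr (Or.inr (Or.inl rfl)), hh⟩, ⟨Or.inr (Or.inr (Or.inr rfl)), h2.2 hh⟩]
      · exact hw.elim
  rw [e, Set.ncard_union_eq]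
  · congr 1 <;> split_ifs <;> simp [Set.ncard_pair hf.t_ne.symm, Set.ncard_pair hf.w_ne_v.symm]
  · split_ifs <;> simp [hf.v_ne, hf.w_ne, hf.ne]

theorem Sw.not_mem {a b : Ω} (hab : a ≠ b) {s : G} (h : Sw a b s) : s ∉ st G a b :=
  fun hs => hab (hs.1.symm.trans h.1)

namespace Hyp

variable {a b : Ω} {τ v ρ : G} (h : Hyp a b τ v ρ)
include h

theorem normal_trans {N : Subgroup G} (hn : N.Normal) (h0 : N ≠ ⊥) (x : Ω) : ∃ n ∈ N, n • a = x := by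
  obtain ⟨n, hnN, h1⟩ := (bot_or_exists_ne_one N).resolve_left h0
  obtain ⟨y, hy⟩ : ∃ y : Ω, n • y ≠ y := by
    by_contra! hc
    exact h1 (h.faith n hc)
  by_cases e : x = a
  · exact ⟨1, one_mem _, by rw [e, one_smul]⟩
  obtain ⟨g, -, rfl, h2⟩ := h.t2.tr y trivial _ trivial hy.symm
  obtain ⟨g', -, h3, rfl⟩ := h.t2.tr a trivial x trivial (Ne.symm e)
  refine ⟨g' * (g⁻¹ * n * g) * g'⁻¹, hn.conj_mem _ (by simpa using hn.conj_mem _ hnN g⁻¹) _, ?_⟩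
  nth_rw 1 [← h3]
  rw [conj_smul', conj_smul'', ← h2, inv_smul_smul]

variable [Finite G]

open Classical in
theorem ncard_sw {s : G} (hs : Sw a b s) (hs' : s ∈ C1[τ]) (Q : G → Prop) (hQ : ∀ y, Q y → y ∈ C1[τ])
    (hP : ∀ y, Q y → Q (τ * y)) :
    {y | Q y ∧ Sw a b y}.ncard = (if Q s then 2 else 0) + (if Q (s * v) then 2 else 0) := by
  have := ncard_sub h.hf (fun w => Q (s * w)) fun w => by
    have e : s * (τ * w) = τ * (s * w) := by rw [← mul_assoc, mem_c1.1 hs', mul_assoc]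
    refine ⟨fun h1 => ?_, fun h1 => e ▸ hP _ h1⟩
    have := hP _ h1
    rwa [e, ← mul_assoc, h.hf.tt, one_mul] at this
  rw [mul_one] at this
  rw [← this, ← Set.ncard_image_of_injective {w | w ∈ four τ v ∧ Q (s * w)} (mul_right_injective s)]
  congr 1
  ext y
  constructor
  · rintro ⟨h1, h2⟩
    obtain ⟨w, hw, rfl⟩ := h.sw_mem hs hs' h2 (hQ y h1)
    exact ⟨w, ⟨hw, h1⟩, rfl⟩
  · rintro ⟨w, ⟨hw, h1⟩, rfl⟩
    exact ⟨h1, hs.mul_mem (h.VK hw)⟩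

theorem ncard_sw_le {s : G} (hs : Sw a b s) (hs' : s ∈ C1[τ]) (Q : G → Prop) (hQ : ∀ y, Q y → y ∈ C1[τ]) :
    {y | Q y ∧ Sw a b y}.ncard ≤ 4 := by
  rw [← h.hf.card, ← SetLike.coe_sort_coe, Nat.card_coe_set_eq,
    ← Set.ncard_image_of_injective (four τ v : Set G) (mul_right_injective s)]
  refine Set.ncard_le_ncard (fun y hy => ?_)
  obtain ⟨w, hw, rfl⟩ := h.sw_mem hs hs' hy.2 (hQ y hy.1)
  exact ⟨w, hw, rfl⟩

omit [Finite G] in
theorem exists_k : ∃ k, Nat.card (st G a b) = k * 4 ∧ k % 2 = 1 := by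
  obtain ⟨k, hk⟩ := card_dvd_of_le h.VK
  rw [h.hf.card] at hk
  have := h.h8
  exact ⟨k, by omega, by omega⟩

theorem ncard_invK {k : ℕ} (hk : Nat.card (st G a b) = k * 4) :
    {y | y ∈ st G a b ∧ orderOf y = 2}.ncard = k := by
  have e3 := ncard_conj_mul' (st G a b) τ
  rw [inf_comm, h.inf_K h.Vc le_rfl, h.hf.card, hk] at e3
  rw [← Nat.eq_of_mul_eq_mul_right (by norm_num) e3]
  congr 1
  exact Set.ext fun d => ⟨fun hd => h.conjK hd.1 hd.2, fun ⟨l, hl, e⟩ =>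
    e ▸ ⟨mul_mem (mul_mem hl h.τK) (inv_mem hl), ((MulAut.conj l).orderOf_eq τ).trans h.hf.ht⟩⟩

/-- an interchanging involution is conjugate into `C(τ)` under the two-point stabilizer -/
theorem sw_conj {y : G} (hy : Sw a b y) (h2 : y * y = 1) : ∃ k ∈ st G a b, k⁻¹ * y * k ∈ C1[τ] := by
  obtain ⟨k, hk, hk2⟩ := h.exists_k
  have : Finite (ConjAct G) := ‹Finite G›
  have := modEq_fx (G := ConjAct G) (Ω := G) (y := ConjAct.toConjAct y) (by rw [← map_mul, h2, map_one])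
    (F := {z | z ∈ st G a b ∧ orderOf z = 2}) fun z hz =>
      ⟨(hy.mul_mem hz.1).mul hy.inv, ((MulAut.conj y).orderOf_eq z).trans hz.2⟩
  rw [h.ncard_invK hk, hk2] at this
  obtain ⟨z, hz, e⟩ := Set.nonempty_of_ncard_ne_zero (s := fx {z | z ∈ st G a b ∧ orderOf z = 2}
    (ConjAct.toConjAct y)) (by omega)
  obtain ⟨l, hl, rfl⟩ := h.conjK hz.1 hz.2
  rw [ConjAct.toConjAct_smul] at e
  refine ⟨l, hl, mem_c1.2 ?_⟩
  calc l⁻¹ * y * l * τ = l⁻¹ * (y * (l * τ * l⁻¹) * y⁻¹) * y * l := by group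
    _ = _ := by rw [e]; group

theorem d_pos [Finite Ω] : ∃ y, IsConj τ y ∧ Sw a b y := by
  obtain ⟨k, hk, hk2⟩ := h.exists_k
  have h1 := h.E1 hk
  have h2 := h.i_lt_n
  by_contra hc
  rw [Set.eq_empty_of_forall_notMem (s := {y | IsConj τ y ∧ Sw a b y}) fun y hy => hc ⟨y, hy⟩,
    Set.ncard_empty, zero_mul, Nat.mul_eq_zero] at h1
  omega

theorem uniq_of_sq {y : G} (h2 : y * y ≠ 1) (h4 : y ^ 2 ^ 2 = 1) :
    ∀ x ∈ fx (F1 Ω τ) y, ∀ x' ∈ fx (F1 Ω τ) y, x = x' := fun x hx x' hx' => by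
  by_contra hne
  obtain ⟨g, -, h3⟩ := h.w1.exists_fix2 y hx hx' hne
  have := h.sq_eq_one h3 (n := 2) (by
    rw [show g⁻¹ * y * g = g⁻¹ * y * g⁻¹⁻¹ by group, conj_pow, h4]; group)
  rw [show g⁻¹ * y * g * (g⁻¹ * y * g) = g⁻¹ * (y * y) * g⁻¹⁻¹ by group, conj_eq_one_iff] at this
  exact h2 this

theorem uniq_of_not_D2 {y : G} (hy : y ∈ C1[τ]) (h1 : y ≠ 1) (h2 : y ≠ τ) (h3 : y ∉ D2 τ v) :
    ∀ x ∈ fx (F1 Ω τ) y, ∀ x' ∈ fx (F1 Ω τ) y, x = x' := fun _ hx _ hx' =>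
  by_contra fun hne => h3 (h.mem_D2_of_fix hy h1 h2 hx hx' hne)

theorem uniq_of_not_conj {y : G} (hy : orderOf y = 2) (h3 : ¬ IsConj τ y) :
    ∀ x ∈ fx (Set.univ : Set Ω) y, ∀ x' ∈ fx (Set.univ : Set Ω) y, x = x' := fun _ hx _ hx' =>
  by_contra fun hne => h3 (h.isConj_of_fix hy hx.2 hx'.2 hne)

theorem uniq_of_not_V {y : G} (hy : y ∈ MM τ v) (h3 : y ∉ four τ v) :
    ∀ x ∈ fx (F2 Ω τ v) y, ∀ x' ∈ fx (F2 Ω τ v) y, x = x' := fun _ hx _ hx' =>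
  by_contra fun hne => h3 (h.mem_V_of_fix hy hx hx' hne)

variable [Finite Ω]

omit [Finite G] [Finite Ω] in
theorem isConj_of_D2 {y : G} (hy : y ∈ D2 τ v) : IsConj τ y := by
  obtain ⟨g, -, rfl | rfl⟩ := hy
  exacts [h.conj_v.trans (isConj_iff.2 ⟨g, rfl⟩), h.conj_w.trans (isConj_iff.2 ⟨g, rfl⟩)]

/-- an element of `M` outside the four-group whose square lies in it is conjugate to an interchanging element -/
theorem M_swap {y : G} (hy : y ∈ MM τ v) (h1 : y ∉ four τ v) (h2 : y * y ∈ four τ v) :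
    ∃ g ∈ MM τ v, Sw a b (g⁻¹ * y * g) := by
  obtain ⟨x, hx, h3⟩ := exists_moved h.two_le_j (h.uniq_of_not_V hy h1)
  exact h.w2.exists_swap hy hx h3 (by rw [← mul_smul, h.mem_F2.1 hx _ h2])

theorem C_swap {y : G} (hy : y ∈ C1[τ]) (h2 : y * y = 1 ∨ y * y = τ)
    (hu : ∀ x ∈ fx (F1 Ω τ) y, ∀ x' ∈ fx (F1 Ω τ) y, x = x') : ∃ g ∈ C1[τ], Sw a b (g⁻¹ * y * g) := by
  obtain ⟨x, hx, h3⟩ := exists_moved h.two_le_i hu
  refine h.w1.exists_swap hy hx h3 ?_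
  rw [← mul_smul]
  rcases h2 with e | e <;> rw [e]
  exacts [one_smul _ _, hx.2]

omit [Finite G] [Finite Ω] in
theorem G_swap {y : G} (hy : orderOf y = 2) : ∃ g, Sw a b (g⁻¹ * y * g) := by
  obtain ⟨x, hx⟩ : ∃ x : Ω, y • x ≠ x := by
    by_contra! hc
    exact ne_one_of_orderOf_two hy (h.faith y hc)
  obtain ⟨g, -, h1⟩ := h.t2.exists_swap (mem_top y) trivial hx
    (by rw [← mul_smul, mul_self_of_orderOf_two hy, one_smul])
  exact ⟨g, h1⟩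

/-- if the number of fixed points of the four-group is even, it is prime to every odd prime -/
theorem not_dvd_j (hj : (F2 Ω τ v).ncard % 2 = 0) {r : ℕ} [hr : Fact r.Prime] (h2 : r ≠ 2) :
    ¬ r ∣ (F2 Ω τ v).ncard := fun hd => by
  have e0 := h.two_le_j
  have hr4 : r.Coprime 4 := Nat.Coprime.pow_right 2 ((Nat.coprime_primes hr.out Nat.prime_two).2 h2)
  obtain ⟨y, hy⟩ := exists_prime_orderOf_dvd_card' (G := MM τ v) r (h.card_M ▸ hd.mul_right _)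
  -- `y` has no fixed point
  have hy1 : ∀ x ∈ F2 Ω τ v, (y : G) • x ≠ x := fun x hx e => by
    have e1 := card_orb (MM τ v) x (B := F2 Ω τ v) fun q => ⟨fun hq => by
      obtain ⟨g, hg, rfl⟩ := h.w2.tr1 hx
      obtain ⟨g', hg', rfl⟩ := h.w2.tr1 hq
      exact ⟨g' * g⁻¹, mul_mem hg' (inv_mem hg), by rw [mul_smul, inv_smul_smul]⟩,
      fun ⟨g, hg, e⟩ => e ▸ h.w2.inv g hg x hx⟩
    rw [h.card_M] at e1
    have e2 := Nat.eq_of_mul_eq_mul_left (by omega) e1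
    have e3 := Subgroup.orderOf_dvd_natCard (MM τ v ⊓ stabilizer G x) (x := y) ⟨y.2, e⟩
    rw [← e2, Subgroup.orderOf_coe, hy] at e3
    have e4 := (Nat.dvd_sub_iff_right (by omega) hd).1 (hr4.dvd_of_dvd_mul_right e3)
    exact hr.out.not_dvd_one e4
  -- an element `s` interchanging `a` and `y a`
  have hya := h.w2.inv y y.2 a h.w2.ha
  obtain ⟨g, hg, g1, g2⟩ := h.w2.tr a h.w2.ha _ hya (hy1 a h.w2.ha).symm
  obtain ⟨s, hs, s1, s2⟩ := h.w2.exists_sw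
  have hV : ∀ w ∈ four τ v, ∀ x ∈ F2 Ω τ v, w • x = x := fun w hw x hx => h.mem_F2.1 hx w hw
  have hss : s * s ∈ four τ v := h.cent _ (Sw.mul ⟨s1, s2⟩ ⟨s1, s2⟩) (mul_mem hs.1 hs.1)
  have hs1 : ∀ x ∈ F2 Ω τ v, s • x ≠ x := fun x hx e => by
    have h1 := modEq_fx' (p := 2) (n := 2) (y := s) (F := F2 Ω τ v) (by
      rw [pow_four', h.hf.mul_self hss])
      fun g hg => h.w2.inv g (zpowers_le.2 hs hg)
    have h2 := (Set.ncard_le_one (Set.toFinite _)).2 (h.uniq_of_not_V hs fun e =>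
      Sw.not_mem h.t2.ne ⟨s1, s2⟩ (h.VK e))
    have h3 := (Set.ncard_pos (Set.toFinite (fx (F2 Ω τ v) s))).2 ⟨x, hx, e⟩
    unfold Nat.ModEq at h1
    omega
  -- `y' = g⁻¹ y g` maps `a` to `b` without fixed points
  set y' := g⁻¹ * y * g with hy'
  have hyM : y' ∈ MM τ v := mul_mem (mul_mem (inv_mem hg) y.2) hg
  have y1 : y' • a = b := by rw [hy', conj_smul'', g1, ← g2, inv_smul_smul]
  have y2 : ∀ x ∈ F2 Ω τ v, y' • x ≠ x := fun x hx e => by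
    rw [hy', conj_smul'', inv_smul_eq_iff] at e
    exact hy1 _ (h.w2.inv g hg x hx) e
  -- the map `x ↦ (the image of b under an element mapping a to b and fixing x)` is injective
  have ex : ∀ x ∈ F2 Ω τ v \ {a, b}, ∃ u ∈ MM τ v, u • a = b ∧ u • x = x := fun x hx => by
    have hxa : x ≠ a := fun e => hx.2 (Or.inl e)
    have hxb : x ≠ b := fun e => hx.2 (Or.inr e)
    obtain ⟨u, hu, u1, u2⟩ := h.w2.tr a h.w2.ha x hx.1 hxa.symm
    obtain ⟨u', hu', u3, u4⟩ := h.w2.tr b h.w2.hb x hx.1 hxb.symm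
    exact ⟨u' * u⁻¹, mul_mem hu' (inv_mem hu), by rw [mul_smul, inv_smul_eq_iff.2 u1.symm, u3],
      by rw [mul_smul, inv_smul_eq_iff.2 u2.symm, u4]⟩
  choose! u hu u1 u2 using ex
  have same : ∀ p ∈ MM τ v, ∀ q ∈ MM τ v, p • a = q • a → p • b = q • b → ∀ x ∈ F2 Ω τ v, p • x = q • x :=
    fun p hp q hq e1 e2 x hx => by
      have := hV _ (h.cent (q⁻¹ * p) ⟨show _ = _ by rw [mul_smul, e1, inv_smul_smul],
        show _ = _ by rw [mul_smul, e2, inv_smul_smul]⟩ (mul_mem (inv_mem hq.1) hp.1)) x hx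
      rwa [mul_smul, inv_smul_eq_iff] at this
  have hb' : y' • b ≠ a := fun e => by
    have h1 : y' * y' ∈ four τ v := h.cent _ (Sw.mul ⟨y1, e⟩ ⟨y1, e⟩) (mul_mem hyM.1 hyM.1)
    have h3 : orderOf y' ∣ 4 := orderOf_dvd_of_pow_eq_one (by
      rw [← h.hf.mul_self h1, ← pow_four']; rfl)
    rw [show y' = g⁻¹ * y * g⁻¹⁻¹ by rw [hy']; group, ← MulAut.conj_apply, MulEquiv.orderOf_eq,
      Subgroup.orderOf_coe, hy] at h3
    exact hr.out.one_lt.ne' (hr4.eq_one_of_dvd h3)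
  have hle := Set.ncard_le_ncard_of_injOn (s := F2 Ω τ v \ {a, b}) (t := F2 Ω τ v \ {a, b, y' • b})
    (fun x => u x • b) (fun x hx => ⟨h.w2.inv _ (hu x hx) b h.w2.hb, fun e => by
      rcases e with e | e | e
      · exact hs1 x hx.1 ((same _ (hu x hx) s hs (by rw [u1 x hx, s1]) (by rw [e, s2]) x hx.1).symm.trans (u2 x hx))
      · exact h.t2.ne (smul_left_cancel (u x) ((u1 x hx).trans e.symm))
      · exact y2 x hx.1 ((same _ (hu x hx) y' hyM (by rw [u1 x hx, y1]) e x hx.1).symm.trans (u2 x hx))⟩)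
    fun x hx x' hx' e => by_contra fun hne => by
      have := h.mem_V_of_fix (hu x hx) ⟨hx.1, u2 x hx⟩ ⟨hx'.1, (same _ (hu x hx) _ (hu x' hx')
        (by rw [u1 x hx, u1 x' hx']) e x' hx'.1).trans (u2 x' hx')⟩ hne
      exact h.t2.ne ((h.VK this).1.symm.trans (u1 x hx))
  have hb2 := h.w2.inv _ hyM b h.w2.hb
  rw [Set.ncard_sdiff (by rintro _ (rfl | rfl); exacts [h.w2.ha, h.w2.hb]),
    Set.ncard_sdiff (by rintro _ (rfl | rfl | rfl); exacts [h.w2.ha, h.w2.hb, hb2]), Set.ncard_pair h.t2.ne,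
    Set.ncard_eq_three.2 ⟨_, _, _, h.t2.ne, hb'.symm, (y2 b h.w2.hb).symm, rfl⟩] at hle
  have h3 : 3 ≤ (F2 Ω τ v).ncard := by
    rw [← Set.ncard_eq_three.2 ⟨_, _, _, h.t2.ne, hb'.symm, (y2 b h.w2.hb).symm, rfl⟩]
    exact Set.ncard_le_ncard (by rintro _ (rfl | rfl | rfl); exacts [h.w2.ha, h.w2.hb, hb2])
  omega

end Hyp

end Cfsg.Lib.TP
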