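import Cfsg.Agent.Lib.TwoPt.Agl
import Cfsg.Agent.Lib.PGroup.ZStarCor
import Cfsg.Agent.Lib.OrderChar.M11

/-!
# Doubly transitive groups with two-point stabilizer `A₄` or `A₅`
-/

set_option autoImplicit false

namespace Cfsg.Lib.TP
open Subgroup Cfsg.Lib Cfsg.Lib.FT Cfsg.Lib.GW MulAction Equiv
open Cfsg.Lib.BSW (mul_self_of_orderOf_two orderOf_two_of_mul_self inv_eq_of_orderOf_two)

/-- the data needed about the two-point stabilizer -/
structure Dat {A : Type*} [Group A] (τ v ρ : A) : Prop where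
  hf : Four τ v
  rot1 : ρ * τ * ρ⁻¹ = v
  rot2 : ρ * v * ρ⁻¹ = τ * v
  cent : ∀ g, g * τ = τ * g → g = 1 ∨ g = τ ∨ g = v ∨ g = τ * v
  h8 : ¬ 8 ∣ Nat.card A
  rig : ∀ φ : A ≃* A, φ τ = τ → φ v = v → φ ρ = ρ → ∀ x, φ x = x

theorem card_A4 : Nat.card (alternatingGroup (Fin 4)) = 12 := by
  rw [nat_card_alternatingGroup, Nat.card_fin]; rfl

theorem card_A5 : Nat.card (alternatingGroup (Fin 5)) = 60 := by
  rw [nat_card_alternatingGroup, Nat.card_fin]; rfl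

theorem dat4 : ∃ τ v ρ : alternatingGroup (Fin 4), Dat τ v ρ := by
  have hf : Four (⟨swap 0 1 * swap 2 3, Perm.mem_alternatingGroup.2 (by decide)⟩ : alternatingGroup (Fin 4)) ⟨swap 0 2 * swap 1 3, Perm.mem_alternatingGroup.2 (by decide)⟩ :=
    ⟨orderOf_two_of_mul_self (by decide) (by decide), orderOf_two_of_mul_self (by decide) (by decide),
      by decide, by decide⟩
  refine ⟨_, _, ⟨swap 1 3 * swap 1 2, Perm.mem_alternatingGroup.2 (by decide)⟩, hf, by decide, by decide, by decide +kernel,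
    by rw [card_A4]; norm_num, fun φ h1 h2 h3 x => ?_⟩
  have e1 := card_dvd_of_le (K := φ.toMonoidHom.eqLocus (MonoidHom.id _)) (four_le_iff.2 ⟨h1, h2⟩)
  have e2 := orderOf_dvd_natCard (φ.toMonoidHom.eqLocus (MonoidHom.id _)) h3
  rw [hf.card] at e1
  rw [orderOf_eq_prime (p := 3) (by decide) (by decide)] at e2
  exact (eq_top_of_le_card _ (card_A4.trans_le <| Nat.le_of_dvd Nat.card_pos
    (Nat.Coprime.mul_dvd_of_dvd_of_dvd (by norm_num) e2 e1))).ge (mem_top x)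

theorem dat5 : ∃ τ v ρ : alternatingGroup (Fin 5), Dat τ v ρ := by
  have : Fact (Nat.Prime 5) := ⟨by norm_num⟩
  obtain ⟨τ, hτ⟩ : ∃ τ : alternatingGroup (Fin 5), τ = ⟨swap 0 1 * swap 2 3, Perm.mem_alternatingGroup.2 (by decide)⟩ := ⟨_, rfl⟩
  obtain ⟨v, hv⟩ : ∃ v : alternatingGroup (Fin 5), v = ⟨swap 0 2 * swap 1 3, Perm.mem_alternatingGroup.2 (by decide)⟩ := ⟨_, rfl⟩
  obtain ⟨ρ, hρ⟩ : ∃ v : alternatingGroup (Fin 5), v = ⟨swap 1 3 * swap 1 2, Perm.mem_alternatingGroup.2 (by decide)⟩ := ⟨_, rfl⟩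
  obtain ⟨σ, hσ⟩ : ∃ v : alternatingGroup (Fin 5), v = ⟨swap 0 4 * swap 2 3, Perm.mem_alternatingGroup.2 (by decide)⟩ := ⟨_, rfl⟩
  have hf : Four τ v := by
    rw [hτ, hv]
    exact ⟨orderOf_two_of_mul_self (by decide) (by decide), orderOf_two_of_mul_self (by decide) (by decide),
      by decide, by decide⟩
  have key : ∀ x, x * x = 1 ∧ x * ρ * x * ρ = 1 ∧ x * τ * x * τ * x * τ = 1 ↔ x = σ := by
    rw [hτ, hρ, hσ]; decide +kernel
  refine ⟨τ, v, ρ, hf, by rw [hτ, hv, hρ]; decide, by rw [hτ, hv, hρ]; decide, by rw [hτ, hv]; decide +kernel,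
    by rw [card_A5]; norm_num, fun φ h1 h2 h3 x => ?_⟩
  have h4 : φ σ = σ := (key _).1 (by
    rw [← h1, ← h3]
    simp only [← map_mul, ((key σ).2 rfl).1, ((key σ).2 rfl).2.1, ((key σ).2 rfl).2.2, map_one, and_self])
  have e1 := card_dvd_of_le (K := φ.toMonoidHom.eqLocus (MonoidHom.id _)) (four_le_iff.2 ⟨h1, h2⟩)
  have e2 := orderOf_dvd_natCard (φ.toMonoidHom.eqLocus (MonoidHom.id _)) h3
  have e3 := orderOf_dvd_natCard (φ.toMonoidHom.eqLocus (MonoidHom.id _)) (mul_mem h4 h2)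
  rw [hf.card] at e1
  rw [orderOf_eq_prime (p := 3) (by rw [hρ]; decide) (by rw [hρ]; decide)] at e2
  rw [orderOf_eq_prime (p := 5) (by rw [hσ, hv]; decide) (by rw [hσ, hv]; decide)] at e3
  exact (eq_top_of_le_card _ (card_A5.trans_le <| Nat.le_of_dvd Nat.card_pos (Nat.Coprime.mul_dvd_of_dvd_of_dvd
    (by norm_num) e3 (Nat.Coprime.mul_dvd_of_dvd_of_dvd (by norm_num) e2 e1)))).ge (mem_top x)

variable {G Ω : Type*} [Group G] [MulAction G Ω]

theorem exists_hyp [FaithfulSMul G Ω] (h2 : IsMultiplyPretransitive G Ω 2) {a b : Ω} (hab : a ≠ b)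
    {A : Type*} [Group A] (e : st G a b ≃* A) {τ v ρ : A} (d : Dat τ v ρ) :
    ∃ τ v ρ : G, Hyp a b τ v ρ ∧ ∀ c, CE a b τ v ρ c → st G a b ≤ C1[c] := by
  let ι : A →* G := (st G a b).subtype.comp e.symm.toMonoidHom
  have hi : Function.Injective ι := (st G a b).subtype_injective.comp e.symm.injective
  have hK : ∀ x, ι x ∈ st G a b := fun x => (e.symm x).2
  have hs : ∀ g ∈ st G a b, ∃ x, ι x = g := fun g hg => ⟨e ⟨g, hg⟩, by simp [ι]⟩
  have hf : Four (ι τ) (ι v) := ⟨by rw [orderOf_injective ι hi, d.hf.ht], by rw [orderOf_injective ι hi, d.hf.hv],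
    fun e => d.hf.ne (hi e), by rw [← map_mul, ← map_mul, d.hf.comm]⟩
  refine ⟨ι τ, ι v, ι ρ, ⟨⟨fun _ _ _ _ => trivial, trivial, trivial, hab, fun x _ y _ hne => ?_⟩,
    fun g hg => FaithfulSMul.eq_of_smul_eq_smul (α := Ω) fun x => by rw [hg, one_smul], hf, hK τ, hK v, hK ρ,
    by rw [← map_inv, ← map_mul, ← map_mul, d.rot1], by rw [← map_inv, ← map_mul, ← map_mul, d.rot2, map_mul],
    fun g hg hc => ?_, Nat.card_congr e.toEquiv ▸ d.h8⟩, fun c s g hg => ?_⟩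
  · obtain ⟨g, hg⟩ := is_two_pretransitive_iff.1 h2 hab hne
    exact ⟨g, trivial, hg⟩
  · obtain ⟨x, rfl⟩ := hs g hg
    rw [hf.mem_four, ← map_one ι, ← map_mul, hi.eq_iff, hi.eq_iff, hi.eq_iff, hi.eq_iff]
    exact d.cent x (hi (by rw [map_mul, map_mul, mem_c1.1 hc]))
  · have ci : c⁻¹ = c := inv_eq_of_mul_eq_one_right s.cc
    have hN : c ∈ N[st G a b] := by
      have : ∀ g ∈ st G a b, c * g * c⁻¹ ∈ st G a b := fun g hg => (s.sw.mul_mem hg).mul s.sw.inv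
      refine mem_normalizer_iff.2 fun g => ⟨this g, fun hg => ?_⟩
      have := this _ hg
      rwa [← ci, inv_inv, show c⁻¹ * (c⁻¹ * g * c) * c = (c * c)⁻¹ * g * (c * c) by group, s.cc, inv_one, one_mul,
        mul_one] at this
    let φ : A ≃* A := e.symm.trans (((st G a b).normalizerMonoidHom ⟨c, hN⟩).trans e)
    have hφ : ∀ x, ι (φ x) = c * ι x * c⁻¹ := fun x => congrArg Subtype.val (e.symm_apply_apply _)
    obtain ⟨x, rfl⟩ := hs g hg
    refine mem_c1_symm (mem_c1.2 (mul_inv_eq_iff_eq_mul.1 ?_))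
    rw [← hφ, d.rig φ (hi (by rw [hφ, conj_τ s.cτ])) (hi (by rw [hφ, conj_τ s.cv])) (hi (by rw [hφ, conj_τ s.cρ]))]

end Cfsg.Lib.TP
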