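import Cfsg.Agent.Lib.TwoPt.OddS

/-!
# The case of a central interchanging involution
-/

set_option autoImplicit false

namespace Cfsg.Lib.TP
open Subgroup Cfsg.Lib Cfsg.Lib.FT Cfsg.Lib.GW MulAction
open Cfsg.Lib.BSW (mul_self_of_orderOf_two orderOf_two_of_mul_self inv_eq_of_orderOf_two)

variable {G Ω : Type*} [Group G] [MulAction G Ω]

/-- `y` is an involution commuting with `u` such that `x` is the only common fixed point -/
def UU (u : G) (x : Ω) (y : G) : Prop :=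
  y * u = u * y ∧ y * y = 1 ∧ y ≠ 1 ∧ y ≠ u ∧ y • x = x ∧ ∀ x' : Ω, u • x' = x' → y • x' = x' → x' = x

theorem card_comap' {X Y : Type*} [Group X] [Group Y] [Finite X] {π : X →* Y} (hs : Function.Surjective π)
    (Z : Subgroup Y) : Nat.card (Z.comap π) = Nat.card Z * Nat.card π.ker := by
  rw [← pg_card_map_mul_card_ker π (Z.comap π), map_comap_eq_self_of_surjective hs,
    inf_eq_right.2 (ker_le_comap π Z)]

theorem arith_E {i j m w x l : ℕ} (hj : 2 ≤ j) (hji : j ≤ i) (h1 : 2 * (i - j) = 4 * (j * (j - 1)))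
    (h2 : i * (i - 1) = l * (j * (j - 1))) (h3 : j * m = w * x) (hw : 1 ≤ w) (hx : 1 ≤ x)
    (h4 : l = (4 * w + 1) * (2 * w + 1) * x ^ 2 ∨ l = (4 * w - 1) * (2 * w - 1) * x ^ 2) : False := by
  obtain ⟨j, rfl⟩ : ∃ u, j = u + 1 := ⟨j - 1, by omega⟩
  obtain ⟨w, rfl⟩ : ∃ u, w = u + 1 := ⟨w - 1, by omega⟩
  rw [Nat.add_sub_cancel] at h1 h2
  obtain rfl : i = (j + 1) * (2 * j + 1) := by
    have : i = j + 1 + 2 * ((j + 1) * j) := by omega
    rw [this]; ring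
  rw [show (j + 1) * (2 * j + 1) - 1 = j * (2 * j + 3) by apply Nat.sub_eq_of_eq_add; ring] at h2
  have h5 : l = (2 * j + 1) * (2 * j + 3) :=
    Nat.eq_of_mul_eq_mul_right (show 0 < (j + 1) * j from Nat.mul_pos (by omega) (by omega)) (by rw [← h2]; ring)
  have h6 : 3 * ((w + 1) * x) ^ 2 ≤ l := by
    rcases h4 with e | e <;> rw [e, mul_pow, ← mul_assoc]
    · exact Nat.mul_le_mul_right _ (by nlinarith)
    · rw [show 4 * (w + 1) - 1 = 4 * w + 3 by omega, show 2 * (w + 1) - 1 = 2 * w + 1 by omega]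
      exact Nat.mul_le_mul_right _ (by nlinarith)
  have hm : m = 1 := by
    rcases m with _ | _ | m
    · have := Nat.mul_pos (show 0 < w + 1 by omega) hx
      omega
    · rfl
    · rw [← h3, h5] at h6
      have := Nat.pow_le_pow_left (Nat.mul_le_mul_left (j + 1) (show 2 ≤ m + 1 + 1 by omega)) 2
      nlinarith
  subst hm
  rw [mul_one] at h3
  have h7 : l + 1 = 4 * ((w + 1) * x) ^ 2 := by rw [← h3, h5]; ring
  rcases h4 with e | e
  · rw [e] at h7; nlinarith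
  · rw [e, show 4 * (w + 1) - 1 = 4 * w + 3 by omega, show 2 * (w + 1) - 1 = 2 * w + 1 by omega] at h7
    rcases w with _ | w
    · have : x = 1 := by nlinarith
      subst this
      omega
    · nlinarith

namespace Hyp

variable {a b : Ω} {τ v ρ c : G} (h : Hyp a b τ v ρ) (s : CE a b τ v ρ c)
include h s

theorem c_ord : orderOf c = 2 :=
  orderOf_two_of_mul_self (fun e => s.sw.not_mem h.t2.ne (e ▸ one_mem _)) s.cc

omit h in
theorem cV {w : G} (hw : w ∈ four τ v) : c * w = w * c :=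
  (mem_centralizer_iff.1 (centralizer_four τ v ▸ (⟨s.cτ, s.cv⟩ : c ∈ C1[τ] ⊓ C1[v])) w hw).symm

theorem cw_sq {w : G} (hw : w ∈ four τ v) : c * w * (c * w) = 1 := by
  rw [mul_assoc, ← mul_assoc w, ← cV s hw, mul_assoc, h.hf.mul_self hw, mul_one, s.cc]

theorem sw_sq {y : G} (hy : Sw a b y) (hc : y ∈ C1[τ]) : y * y = 1 := by
  obtain ⟨w, hw, rfl⟩ := h.sw_mem s.sw s.cτ hy hc
  exact h.cw_sq s hw

theorem cw_ne {w w' : G} (hw : w ∈ four τ v) (hw' : w' ∈ four τ v) : c * w ≠ w' := fun e =>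
  (s.sw.mul_mem (h.VK hw)).not_mem h.t2.ne (e ▸ h.VK hw')

omit h in
theorem rot_c (w : G) : ρ * (c * w) * ρ⁻¹ = c * (ρ * w * ρ⁻¹) := by
  rw [← mul_assoc, ← mem_c1.1 s.cρ]; group

variable [Finite G]

open Classical in
theorem deltaE : {y | y ∈ D2 τ v ∧ Sw a b y}.ncard =
    (if c ∈ D2 τ v then 2 else 0) + (if c * v ∈ D2 τ v then 2 else 0) :=
  h.ncard_sw s.sw s.cτ (· ∈ D2 τ v) (fun _ hy => (D2_four h.hf hy).v_mem) fun _ hy => D2_mul h.hf hy

theorem swE (rig : st G a b ≤ C1[c]) {y : G} (hy : Sw a b y) (h2 : y * y = 1) :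
    y = c ∨ (c * y ∈ st G a b ∧ orderOf (c * y) = 2) := by
  have h1 := s.sw.mul hy
  by_cases e : c * y = 1
  · exact Or.inl (by rw [← inv_eq_of_mul_eq_one_right e, inv_eq_of_orderOf_two (h.c_ord s)])
  refine Or.inr ⟨h1, orderOf_two_of_mul_self e ?_⟩
  rw [← mul_assoc, mem_c1.1 (rig h1), ← mul_assoc, s.cc, one_mul, h2]

theorem conj_ck (rig : st G a b ≤ C1[c]) {k : G} (hk : k ∈ st G a b) (h2 : orderOf k = 2) :
    IsConj (c * τ) (c * k) := by
  obtain ⟨l, hl, rfl⟩ := h.conjK hk h2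
  exact isConj_iff.2 ⟨l, by rw [← mul_assoc, mem_c1.1 (rig hl)]; group⟩

open Classical in
theorem dE (rig : st G a b ≤ C1[c]) {k : ℕ} (hk : Nat.card (st G a b) = k * 4) :
    {y | IsConj τ y ∧ Sw a b y}.ncard = (if IsConj τ c then 1 else 0) + (if IsConj τ (c * τ) then k else 0) := by
  have e : {y | IsConj τ y ∧ Sw a b y} = (if IsConj τ c then {c} else ∅) ∪
      (if IsConj τ (c * τ) then (c * ·) '' {y | y ∈ st G a b ∧ orderOf y = 2} else ∅) := by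
    ext y
    constructor
    · rintro ⟨h1, h2⟩
      obtain ⟨g, rfl⟩ := isConj_iff.1 h1
      rcases h.swE s rig h2 (h.hf.conj g).tt with e | e
      · rw [e] at h1 ⊢
        rw [if_pos h1]
        exact Or.inl rfl
      · have e2 : c * (c * (g * τ * g⁻¹)) = g * τ * g⁻¹ := by rw [← mul_assoc, s.cc, one_mul]
        rw [if_pos (c := IsConj τ (c * τ)) (h1.trans (e2 ▸ h.conj_ck s rig e.1 e.2).symm)]
        exact Or.inr ⟨_, e, e2⟩
    · rintro (hy | hy) <;> split_ifs at hy with hh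
      · exact hy ▸ ⟨hh, s.sw⟩
      · exact hy.elim
      · obtain ⟨k, hk, rfl⟩ := hy
        exact ⟨hh.trans (h.conj_ck s rig hk.1 hk.2), s.sw.mul_mem hk.1⟩
      · exact hy.elim
  rw [e, Set.ncard_union_eq]
  · congr 1 <;> split_ifs
    · exact Set.ncard_singleton c
    · exact Set.ncard_empty G
    · rw [Set.ncard_image_of_injective _ (mul_right_injective c), h.ncard_invK hk]
    · exact Set.ncard_empty G
  · refine Set.disjoint_left.2 fun y hy hy' => ?_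
    split_ifs at hy hy'
    · obtain ⟨w, hw, rfl⟩ := hy'
      have : w = 1 := by simpa using hy
      rw [this] at hw
      simpa using hw.2
    all_goals first | exact hy' | exact hy

variable [Finite Ω]

theorem no4 {y : G} : y * y ≠ τ := fun e => by
  have hy : y ∈ C1[τ] := mem_c1.2 (by rw [← e, mul_assoc])
  obtain ⟨g, hg, h1⟩ := h.C_swap hy (Or.inr e) (h.uniq_of_sq (fun e' => h.hf.t_ne (e.symm.trans e'))
    (by rw [pow_four', e, h.hf.tt]))
  have := h.sw_sq s h1 (conj_mem_c1 hg hy)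
  rw [show g⁻¹ * y * g * (g⁻¹ * y * g) = g⁻¹ * (y * y) * g⁻¹⁻¹ by group, conj_eq_one_iff] at this
  exact h.hf.t_ne (e.symm.trans this)

theorem conj_cτ (rig : st G a b ≤ C1[c]) (hc : ¬ IsConj τ c) : IsConj τ (c * τ) := by
  obtain ⟨y, h1, h2⟩ := h.d_pos
  obtain ⟨g, rfl⟩ := isConj_iff.1 h1
  rcases h.swE s rig h2 (h.hf.conj g).tt with e | e
  · exact absurd (e ▸ h1) hc
  · have := h.conj_ck s rig e.1 e.2
    rw [← mul_assoc, s.cc, one_mul] at this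
    exact h1.trans this.symm

theorem sw_class (rig : st G a b ≤ C1[c]) (hc : ¬ IsConj τ c) :
    {d | d ∈ {y | IsConj c y} ∧ d • a = b ∧ d • b = a} = {c} := by
  refine Set.eq_singleton_iff_unique_mem.2 ⟨⟨IsConj.refl c, s.sw⟩, fun y hy => ?_⟩
  obtain ⟨g, rfl⟩ := isConj_iff.1 hy.1
  refine (h.swE s rig hy.2 (by rw [conj_mul, s.cc]; group)).resolve_right fun e => hc ?_
  have := h.conj_ck s rig e.1 e.2
  rw [← mul_assoc, s.cc, one_mul] at this
  exact ((h.conj_cτ s rig hc).trans this).trans hy.1.symm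

theorem isolated (rig : st G a b ≤ C1[c]) (hn : Nat.card Ω % 2 = 1) (hc : ¬ IsConj τ c) : IsIsolated c := by
  have ho : ∀ y, IsConj c y → orderOf y = 2 := fun y hy => by
    obtain ⟨g, rfl⟩ := isConj_iff.1 hy
    exact ((MulAut.conj g).orderOf_eq c).trans (h.c_ord s)
  have hu : ∀ y, IsConj c y → _ := fun y hy => h.uniq_of_not_conj (ho y hy) fun e => hc (e.trans hy.symm)
  have h1 : ∀ y ∈ {y | IsConj c y}, (fx (Set.univ : Set Ω) y).ncard = 1 := fun y hy =>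
    ncard_fx_one (n := 1) (by rw [pow_one, sq, mul_self_of_orderOf_two (ho y hy)]) (fun _ _ _ _ => trivial)
      (by rwa [Set.ncard_univ]) (hu y hy)
  obtain ⟨x, hx⟩ := Set.ncard_eq_one.1 (h1 c (IsConj.refl c))
  have hx' : x ∈ fx (Set.univ : Set Ω) c := hx ▸ rfl
  have := h.t2.cnt_one (D := {y | IsConj c y}) (fun g _ y hy => hy.trans (isConj_iff.2 ⟨g, rfl⟩)) h1
    (fun _ _ => mem_top _) (fun y hy x _ => by rw [← mul_smul, mul_self_of_orderOf_two (ho y hy), one_smul])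
    (x := x) trivial
  rw [h.sw_class s rig hc, Set.ncard_singleton] at this
  intro g hg
  exact (Set.ncard_le_one (Set.toFinite _)).1 this.le _ ⟨isConj_iff.2 ⟨g, rfl⟩,
    hu c (IsConj.refl c) _ ⟨trivial, fix_of_comm hx'.2 hg.eq.symm⟩ _ hx'⟩ _ ⟨IsConj.refl c, hx'.2⟩

open Classical in
theorem ncard_UU (hn : Nat.card Ω % 2 = 1) {u : G} (hu : IsConj τ u) {x : Ω} (hx : u • x = x) :
    {y | UU u x y}.ncard ≤ (if c ∈ D2 τ v then 0 else 2) + (if c * v ∈ D2 τ v then 0 else 2) := by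
  have hi : (F1 Ω τ).ncard % 2 = 1 := h.par_ni ▸ hn
  obtain ⟨g, rfl⟩ := isConj_iff.1 hu
  obtain ⟨x, rfl⟩ : ∃ x', x = g • x' := ⟨g⁻¹ • x, by simp⟩
  rw [conj_smul', smul_left_cancel_iff] at hx
  let Q : G → Prop := fun y => y ∈ C1[τ] ∧ y * y = 1 ∧ y ≠ 1 ∧ y ≠ τ ∧ y ∉ D2 τ v
  have e1 := h.w1.cnt_one (D := {y | Q y}) (fun g hg y hy => ⟨mul_mem (mul_mem hg hy.1) (inv_mem hg),
      by rw [conj_mul, hy.2.1]; group, by simpa using hy.2.2.1,
      fun e => hy.2.2.2.1 (by rw [← conj_τ (inv_mem hg), ← e]; group),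
      fun e => hy.2.2.2.2 (by simpa [mul_assoc] using D2_conj (inv_mem hg) _ e)⟩)
    (fun y hy => ncard_fx_one (n := 1) (by rw [pow_one, sq, hy.2.1])
      (fun g hg => h.w1.inv g (zpowers_le.2 hy.1 hg)) hi (h.uniq_of_not_D2 hy.1 hy.2.2.1 hy.2.2.2.1 hy.2.2.2.2))
    (fun y hy => hy.1) (fun y hy x _ => by rw [← mul_smul, hy.2.1, one_smul]) (x := x) ⟨trivial, hx⟩
  have e2 := h.ncard_sw s.sw s.cτ Q (fun y hy => hy.1) fun y hy => ⟨mul_mem (self_mem_c1 τ) hy.1,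
    by rw [mul_assoc, ← mul_assoc y, mem_c1.1 hy.1, mul_assoc, hy.2.1, mul_one, h.hf.tt],
    fun e => hy.2.2.2.1 (by rw [← inv_eq_of_mul_eq_one_right e, h.hf.t_inv]),
    fun e => hy.2.2.1 (by simpa using e), fun e => hy.2.2.2.2 (by
      have := D2_mul h.hf e
      rwa [← mul_assoc, h.hf.tt, one_mul] at this)⟩
  have e3 : {y | UU (g * τ * g⁻¹) (g • x) y}.ncard ≤ {d | d ∈ {y | Q y} ∧ d • x = x}.ncard := by
    refine Set.ncard_le_ncard_of_injOn (fun y => g⁻¹ * y * g) (fun y hy => ?_) fun y _ y' _ e => by simpa using e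
    obtain ⟨y, rfl⟩ : ∃ y', y = g * y' * g⁻¹ := ⟨g⁻¹ * y * g, by group⟩
    obtain ⟨h1, h2, h3, h4, h5, h6⟩ := hy
    rw [conj_mul, conj_mul, mul_left_inj, mul_right_inj] at h1
    rw [conj_mul, conj_eq_one_iff] at h2
    rw [conj_smul', smul_left_cancel_iff] at h5
    rw [show g⁻¹ * (g * y * g⁻¹) * g = y by group]
    refine ⟨⟨mem_c1.2 h1, h2, fun e => h3 (by rw [e]; group), fun e => h4 (by rw [e]), fun e => ?_⟩, h5⟩
    have h7 := h.two_le_j
    rw [← h.ncard_D2_fix e] at h7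
    obtain ⟨p, hp, q, hq, hne⟩ := (Set.one_lt_ncard (Set.toFinite _)).1 h7
    exact hne (smul_left_cancel g ((h6 _ (by rw [conj_smul', hp.1.2]) (by rw [conj_smul', hp.2])).trans
      (h6 _ (by rw [conj_smul', hq.1.2]) (by rw [conj_smul', hq.2])).symm))
  refine e3.trans (e1.le.trans (e2.le.trans (add_le_add ?_ ?_)))
  · split_ifs with h1 h2 h2
    exacts [absurd h2 h1.2.2.2.2, le_rfl, le_rfl, by omega]
  · split_ifs with h1 h2 h2
    exacts [absurd h2 h1.2.2.2.2, le_rfl, le_rfl, by omega]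

theorem exists_uniq (hn : Nat.card Ω % 2 = 1) {w : G} (hw : w ∈ four τ v) (hD : c * w ∉ D2 τ v) :
    ∃ x : Ω, (∀ u ∈ four τ v, u • x = x) ∧ c • x = x ∧ ∀ x' : Ω, τ • x' = x' → (c * w) • x' = x' → x' = x := by
  have hi : (F1 Ω τ).ncard % 2 = 1 := h.par_ni ▸ hn
  have hc := mul_mem s.cτ (h.Vc hw)
  have hu := h.uniq_of_not_D2 hc (h.cw_ne s hw (one_mem _)) (h.cw_ne s hw (left_mem_four τ v)) hD
  obtain ⟨x, hx⟩ := Set.ncard_eq_one.1 (ncard_fx_one (n := 1) (by rw [pow_one, sq, h.cw_sq s hw])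
    (fun g hg => h.w1.inv g (zpowers_le.2 hc hg)) hi hu)
  have hx' : x ∈ fx (F1 Ω τ) (c * w) := hx ▸ rfl
  have h1 : ∀ u ∈ four τ v, u • x = x := h.mem_F2.1 ⟨hx'.1, hu _ ⟨h.w1.inv v h.hf.v_mem x hx'.1,
    fix_of_comm hx'.2 (mem_c1.1 (mul_mem s.cv (h.hf.le_c hw).2)).symm⟩ _ hx'⟩
  exact ⟨x, h1, by have := hx'.2; rwa [mul_smul, h1 w hw] at this,
    fun x' e1 e2 => hu _ ⟨⟨trivial, e1⟩, e2⟩ _ hx'⟩

theorem c_D2 (hn : Nat.card Ω % 2 = 1) (hc : IsConj τ c) : c ∈ D2 τ v := by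
  by_contra hD
  obtain ⟨x, h1, h2, h3⟩ := h.exists_uniq s hn (one_mem _) (by rwa [mul_one])
  rw [mul_one] at h3
  have m1 := left_mem_four τ v
  have m2 := right_mem_four τ v
  have m3 := mul_mem m1 m2
  have hρ : ∀ x' : Ω, c • x' = x' → c • ρ • x' = ρ • x' := fun x' e => fix_of_comm e (mem_c1.1 s.cρ).symm
  have k3 : ∀ x' : Ω, c • x' = x' → (τ * v) • x' = x' → x' = x := fun x' e1 e2 =>
    smul_left_cancel ρ ((h3 _ (by rw [← h.rot3, conj_smul', e2]) (hρ _ e1)).trans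
      (h3 _ (by rw [← h.rot3, conj_smul', h1 _ m3]) (hρ _ h2)).symm)
  have k2 : ∀ x' : Ω, c • x' = x' → v • x' = x' → x' = x := fun x' e1 e2 =>
    smul_left_cancel ρ ((k3 _ (hρ _ e1) (by rw [← h.rot2, conj_smul', e2])).trans
      (k3 _ (hρ _ h2) (by rw [← h.rot2, conj_smul', h1 _ m2])).symm)
  have k : ∀ w ∈ ({τ, v, τ * v} : Set G), w ∈ four τ v ∧ w ≠ 1 ∧
      ∀ x' : Ω, c • x' = x' → w • x' = x' → x' = x := by
    rintro _ (rfl | rfl | rfl)
    exacts [⟨m1, h.hf.t_ne, fun x' e1 e2 => h3 x' e2 e1⟩, ⟨m2, h.hf.v_ne, k2⟩, ⟨m3, h.hf.w_ne, k3⟩]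
  have e3 : ({τ, v, τ * v} : Set G).ncard = 3 :=
    Set.ncard_eq_three.2 ⟨τ, v, τ * v, h.hf.ne.symm, h.hf.w_ne_t.symm, h.hf.w_ne_v.symm, rfl⟩
  have hle := Set.ncard_le_ncard (s := {τ, v, τ * v} ∪ (c * ·) '' {τ, v, τ * v}) (t := {y | UU c x y}) (by
    rintro y (hy | ⟨w, hw, rfl⟩)
    · obtain ⟨p1, p2, p3⟩ := k y hy
      exact ⟨(cV s p1).symm, h.hf.mul_self p1, p2, fun e => h.cw_ne s (one_mem _) p1 (by rw [mul_one, e]),
        h1 y p1, p3⟩
    · obtain ⟨p1, p2, p3⟩ := k w hw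
      refine ⟨by rw [mul_assoc, ← cV s p1], h.cw_sq s p1, h.cw_ne s p1 (one_mem _), by simpa using p2,
        by simp only [mul_smul, h1 w p1, h2], fun x' e1 e2 => p3 x' e1 ?_⟩
      simp only [cV s p1, mul_smul, e1] at e2
      exact e2)
  rw [Set.ncard_union_eq (Set.disjoint_left.2 (by
      rintro y hy ⟨w, hw, rfl⟩
      exact h.cw_ne s (k w hw).1 (k _ hy).1 rfl)),
    Set.ncard_image_of_injective _ (mul_right_injective c), e3] at hle
  have := hle.trans (h.ncard_UU s hn hc h2)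
  split_ifs at this <;> omega

theorem cv_D2 (hn : Nat.card Ω % 2 = 1) (hc : c ∈ D2 τ v) : c * v ∈ D2 τ v := by
  by_contra hD
  have m1 := left_mem_four τ v
  have m2 := right_mem_four τ v
  have m3 := mul_mem m1 m2
  obtain ⟨x, h1, h2, h3⟩ := h.exists_uniq s hn m2 hD
  have hcj : IsConj τ (c * v) := (h.isConj_of_D2 (D2_mul h.hf hc)).trans (isConj_iff.2 ⟨ρ, by
    rw [← mem_c1.1 s.cτ, rot_c s, h.rot1]⟩)
  have hx : (c * v) • x = x := by rw [mul_smul, h1 v m2, h2]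
  have key : ∀ x' : Ω, (c * v) • x' = x' → (τ * v) • x' = x' → ρ • x' = x := fun x' e1 e2 => by
    have p1 : τ • ρ • x' = ρ • x' := by rw [← h.rot3, conj_smul', e2]
    have p2 : (c * (τ * v)) • ρ • x' = ρ • x' := by rw [← h.rot2, ← rot_c s, conj_smul', e1]
    refine h3 _ p1 ?_
    rwa [← h.hf.comm, ← mul_assoc, mul_smul, p1] at p2
  have hcv : ∀ w ∈ four τ v, w * (c * v) = c * v * w := fun w hw => by
    rw [← mul_assoc, ← cV s hw, mul_assoc, mul_assoc, mem_c1.1 (h.hf.le_c hw).2]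
  have e : c * (τ * v) = τ * (c * v) := by rw [← mul_assoc, mem_c1.1 s.cτ, mul_assoc]
  have hle := Set.ncard_le_ncard (s := {τ, c * (τ * v), τ * v}) (t := {y | UU (c * v) x y}) (by
    rintro _ (rfl | rfl | rfl)
    · exact ⟨hcv _ m1, h.hf.tt, h.hf.t_ne, (h.cw_ne s m2 m1).symm, h1 _ m1, fun x' e1 e2 => h3 x' e2 e1⟩
    · refine ⟨by rw [e, ← mul_assoc (c * v) τ, ← hcv _ m1], h.cw_sq s m3,
        h.cw_ne s m3 (one_mem _), fun e => h.hf.w_ne_v (mul_left_cancel e),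
        by rw [mul_smul, h1 _ m3, h2], fun x' e1 e2 => h3 x' ?_ e1⟩
      rwa [e, mul_smul, e1] at e2
    · exact ⟨hcv _ m3, h.hf.ww, h.hf.w_ne, (h.cw_ne s m2 m3).symm, h1 _ m3, fun x' e1 e2 =>
        smul_left_cancel ρ ((key x' e1 e2).trans (key x hx (h1 _ m3)).symm)⟩)
  rw [Set.ncard_eq_three.2 ⟨_, _, _, (h.cw_ne s m3 m1).symm, h.hf.w_ne_t.symm, h.cw_ne s m3 m3, rfl⟩] at hle
  have := hle.trans (h.ncard_UU s hn hcj hx)
  rw [if_pos hc, if_neg hD] at this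
  omega

theorem all_D2 (h1 : c ∈ D2 τ v) (h2 : c * v ∈ D2 τ v) {y : G} (hy : y ∈ C1[τ]) (y1 : y ≠ 1) (y2 : y ≠ τ)
    (y3 : y * y = 1) : y ∈ D2 τ v := by
  by_contra hD
  obtain ⟨g, hg, hs⟩ := h.C_swap hy (Or.inl y3) (h.uniq_of_not_D2 hy y1 y2 hD)
  obtain ⟨w, hw, e⟩ := h.sw_mem s.sw s.cτ hs (conj_mem_c1 hg hy)
  refine hD (by
    have : c * w ∈ D2 τ v := by
      rcases h.hf.mem_four.1 hw with e | e | e | e <;> rw [e]
      · rwa [mul_one]
      · exact mem_c1.1 s.cτ ▸ D2_mul h.hf h1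
      · exact h2
      · rw [← mul_assoc, mem_c1.1 s.cτ, mul_assoc]
        exact D2_mul h.hf h2
    simpa [← e, mul_assoc] using D2_conj hg _ this)

theorem not_sixteen (hn : Nat.card Ω % 2 = 1) (h1 : c ∈ D2 τ v) (h2 : c * v ∈ D2 τ v) :
    ¬ 16 ∣ Nat.card C1[τ] := by
  have hj : (F2 Ω τ v).ncard % 2 = 1 := h.par_ij ▸ h.par_ni ▸ hn
  obtain ⟨T, hT, hle⟩ := exists_isSylowIn_ge h.hf.isPGroup h.Vc
  have aux : ∀ (n : ℕ) (u : G), u ∈ C1[τ] → u ^ 2 ^ n = 1 → u * u = 1 := fun n => by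
    induction n with
    | zero => intro u _ e; rw [pow_zero, pow_one] at e; rw [e, one_mul]
    | succ n ih =>
      intro u u1 e
      by_contra hc
      have h3 := ih (u * u) (mul_mem u1 u1) (by rw [← sq, ← pow_mul, ← pow_succ', e])
      obtain ⟨g, hg⟩ := isConj_iff.1 (h.isConj_of_D2 (h.all_D2 s h1 h2 (mul_mem u1 u1) hc (h.no4 s) h3)).symm
      exact h.no4 s (y := g * u * g⁻¹) (by rw [conj_mul, hg])
  have hsq : ∀ u ∈ T, u * u = 1 := fun u hu => by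
    obtain ⟨n, hn⟩ := hT.isPGroup ⟨u, hu⟩
    exact aux n u (hT.le hu) (congrArg Subtype.val hn)
  have hTM : T ≤ MM τ v := fun u hu => ⟨hT.le hu, centralizer_le_normalizer _ (mem_centralizer_iff.2
    fun w hw => comm_of_isMulCommutative (Wal.comm_of_sq hsq) (hle hw) hu)⟩
  obtain ⟨x, hx, hxT⟩ := exists_fix hT.isPGroup (F := F2 Ω τ v) (fun g hg => h.w2.inv g (hTM hg)) (by omega)
  let Q : G → Prop := fun y => y ∈ MM τ v ∧ y * y = 1 ∧ y ∉ four τ v
  have e1 := h.w2.cnt_one (D := {y | Q y}) (fun g hg y hy => ⟨mul_mem (mul_mem hg hy.1) (inv_mem hg),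
      by rw [conj_mul, hy.2.1]; group, fun e => hy.2.2 ((mem_normalizer_iff.1 hg.2 y).2 e)⟩)
    (fun y hy => ncard_fx_one (n := 1) (by rw [pow_one, sq, hy.2.1])
      (fun g hg => h.w2.inv g (zpowers_le.2 hy.1 hg)) hj (h.uniq_of_not_V hy.1 hy.2.2))
    (fun y hy => hy.1) (fun y hy x _ => by rw [← mul_smul, hy.2.1, one_smul]) hx
  have e2 := h.ncard_sw_le s.sw s.cτ Q fun y hy => hy.1.1
  have e3 : Nat.card T ≤ 8 := by
    rw [← SetLike.coe_sort_coe, Nat.card_coe_set_eq]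
    refine (Set.ncard_le_ncard (t := (four τ v : Set G) ∪ {d | d ∈ {y | Q y} ∧ d • x = x}) fun y hy => ?_).trans
      ((Set.ncard_union_le _ _).trans ?_)
    · by_cases e : y ∈ four τ v
      exacts [Or.inl e, Or.inr ⟨⟨hTM hy, hsq y hy, e⟩, hxT y hy⟩]
    · rw [← Nat.card_coe_set_eq, SetLike.coe_sort_coe, h.hf.card, e1]
      exact Nat.add_le_add_left e2 4
  intro hd
  have e4 := relIndex_mul_card hT.le
  have e5 := Nat.le_of_dvd Nat.card_pos (Nat.Coprime.dvd_of_dvd_mul_left (k := 2 ^ 4) (Nat.Coprime.pow_left 4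
    ((Nat.Prime.coprime_iff_not_dvd Nat.prime_two).2 hT.not_dvd_relIndex)) (e4 ▸ hd))
  omega

theorem not_conj_c (hn : Nat.card Ω % 2 = 1) : ¬ IsConj τ c := fun hc => by
  have h1 := h.c_D2 s hn hc
  have h2 := h.cv_D2 s hn h1
  have h16 := h.not_sixteen s hn h1 h2
  have hj : (F2 Ω τ v).ncard % 2 = 1 := h.par_ij ▸ h.par_ni ▸ hn
  have hf := h.hf
  obtain ⟨τ', hτ'⟩ : ∃ τ' : C1[τ], τ' = ⟨τ, self_mem_c1 τ⟩ := ⟨_, rfl⟩
  have hτv : (τ' : G) = τ := by rw [hτ']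
  have hz : ∀ y : C1[τ], y ∈ zpowers τ' ↔ (y : G) = 1 ∨ (y : G) = τ := fun y => by
    rw [mem_zpowers_two (Subtype.ext (by rw [coe_mul, hτv, hf.tt]; rfl)), Subtype.ext_iff, Subtype.ext_iff, hτv]
    rfl
  have : (zpowers τ').Normal := ⟨fun n hn g => (hz _).2 (((hz n).1 hn).imp
    (fun e => by simp [e]) fun e => by simpa [e] using conj_τ g.2)⟩
  obtain ⟨π, hπ⟩ : ∃ π : C1[τ] →* C1[τ] ⧸ zpowers τ', π = QuotientGroup.mk' _ := ⟨_, rfl⟩
  have hs : Function.Surjective π := hπ ▸ QuotientGroup.mk'_surjective _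
  have hk : π.ker = zpowers τ' := hπ ▸ QuotientGroup.ker_mk' _
  have hk2 : Nat.card π.ker = 2 := by rw [hk, Nat.card_zpowers, ← Subgroup.orderOf_coe, hτv, hf.ht]
  have heq : ∀ y z : C1[τ], π y = π z ↔ (y : G) = z ∨ (y : G) = τ * z := fun y z => by
    rw [← mul_inv_eq_one, ← map_inv, ← map_mul, ← MonoidHom.mem_ker, hk, hz, coe_mul, coe_inv,
      mul_inv_eq_one, mul_inv_eq_iff_eq_mul]
  have ho : ∀ y : C1[τ], (y : G) ∈ D2 τ v → orderOf (π y) = 2 := fun y hy =>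
    orderOf_two_of_mul_self (fun e => by
      rcases (heq y 1).1 (e.trans (map_one π).symm) with e | e
      exacts [(D2_four hf hy).v_ne e, (D2_four hf hy).ne (by simpa using e)])
      (by rw [← map_mul, show y * y = 1 from Subtype.ext (D2_four hf hy).vv, map_one])
  obtain ⟨v', hv'⟩ : ∃ v' : C1[τ], (v' : G) = v := ⟨⟨v, hf.v_mem⟩, rfl⟩
  obtain ⟨c', hc'⟩ : ∃ c' : C1[τ], (c' : G) = c := ⟨⟨c, s.cτ⟩, rfl⟩
  have hcj : ∀ y : C1[τ], (y : G) ∈ D2 τ v → IsConj (π v') (π y) := fun y ⟨g, hg, e⟩ =>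
    isConj_iff.2 ⟨π ⟨g, hg⟩, by
      rw [← map_inv, ← map_mul, ← map_mul, eq_comm, heq]
      refine e.imp (fun e => by simpa [hv'] using e) fun e => ?_
      rw [e, ← mul_assoc g, mem_c1.1 hg]
      simp [hv', mul_assoc]⟩
  have hvc : v' * c' = c' * v' := Subtype.ext (by simpa [hv', hc'] using (mem_c1.1 s.cv).symm)
  have hf' : Four (π v') (π c') := ⟨ho v' (hv' ▸ ⟨1, one_mem _, Or.inl (by group)⟩), ho c' (hc' ▸ h1),
    fun e => by
      rw [heq, hv', hc'] at e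
      rcases e with e | e
      · exact h.cw_ne s (one_mem _) (right_mem_four τ v) (by rw [mul_one, e])
      · exact h.cw_ne s (one_mem _) (mul_mem (left_mem_four τ v) (right_mem_four τ v)) (by rw [mul_one, e]),
    by rw [← map_mul, ← map_mul, hvc]⟩
  have hX := card_comap' hs ⊤
  rw [comap_top, card_top, card_top, hk2] at hX
  obtain ⟨w, x, hw, hx, e1, e2⟩ := gw_count hf' (fun ⟨m, hm⟩ => h16 ⟨m, by omega⟩) (hcj c' (hc' ▸ h1))
    (by rw [← map_mul, hvc]; exact hcj _ (by simpa [hv', hc'] using h2))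
  have hM : C1[π v'].comap π = (MM τ v).subgroupOf C1[τ] := by
    ext g
    rw [mem_comap, mem_c1, ← mul_inv_eq_iff_eq_mul, ← map_inv, ← map_mul, ← map_mul, heq, mem_subgroupOf]
    simp only [coe_mul, coe_inv, hv']
    refine ⟨fun e => ⟨g.2, Four.mem_normalizer (by rw [conj_τ g.2]; exact left_mem_four τ v) ?_⟩,
      fun e => hf.conj_v e.2 e.1⟩
    rcases e with e | e <;> rw [e]
    exacts [right_mem_four τ v, mul_mem (left_mem_four τ v) (right_mem_four τ v)]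
  have e3 := card_comap' hs C1[π v']
  rw [hM, hk2, Nat.card_congr (subgroupOfEquivOfLe (inf_le_left : MM τ v ≤ C1[τ])).toEquiv] at e3
  have hcM : c ∈ MM τ v := ⟨s.cτ, centralizer_le_normalizer _ (centralizer_four τ v ▸ ⟨s.cτ, s.cv⟩)⟩
  have hu := h.uniq_of_not_V hcM fun e => h.cw_ne s (one_mem _) e (mul_one c)
  obtain ⟨p, hp⟩ := Set.ncard_eq_one.1 (ncard_fx_one (n := 1) (by rw [pow_one, sq, s.cc])
    (fun g hg => h.w2.inv g (zpowers_le.2 hcM hg)) hj hu)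
  have hp' : p ∈ fx (F2 Ω τ v) c := hp ▸ rfl
  have hle : (C1[π v'] ⊓ C1[π c']).comap π ≤ (MM τ v ⊓ stabilizer G p).subgroupOf C1[τ] := fun g hg => by
    have g1 : (g : G) ∈ MM τ v := by
      have : g ∈ C1[π v'].comap π := hg.1
      rwa [hM] at this
    have g2 : π c' * π g = π g * π c' := (mem_c1.1 hg.2).symm
    rw [← map_mul, ← map_mul, heq] at g2
    simp only [coe_mul, hc'] at g2
    have g3 := h.w2.inv g g1 p hp'.1
    refine ⟨g1, hu _ ⟨g3, ?_⟩ _ hp'⟩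
    rcases g2 with e | e <;> rw [← mul_smul, e, mul_smul]
    · rw [hp'.2]
    · rw [mul_smul, hp'.2, g3.1.2]
  obtain ⟨m, hm⟩ := card_dvd_of_le hle
  rw [card_comap' hs, hk2, Nat.card_congr (subgroupOfEquivOfLe (inf_le_left.trans inf_le_left)).toEquiv] at hm
  have e4 := card_orb (MM τ v) p (B := F2 Ω τ v) fun q => ⟨fun hq => by
      obtain ⟨g, hg, e⟩ := h.w2.tr1 hp'.1
      obtain ⟨g', hg', rfl⟩ := h.w2.tr1 hq
      exact ⟨g' * g⁻¹, mul_mem hg' (inv_mem hg), by rw [mul_smul, ← e, inv_smul_smul]⟩,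
      fun ⟨g, hg, e⟩ => e ▸ h.w2.inv g hg p hp'.1⟩
  have e5 := h.E2
  rw [h.deltaE s, if_pos h1, if_pos h2] at e5
  have e6 := h.card_C
  have e7 := h.card_M
  have e8 : (F2 Ω τ v).ncard * m = w * x := Nat.eq_of_mul_eq_mul_right
    (Nat.mul_pos (Nat.card_pos (α := ↥(C1[π v'] ⊓ C1[π c']))) two_pos) (by
      rw [← mul_assoc (w * x), ← e1, ← e3, e4, hm]; ring)
  have key : ∀ l, Nat.card (C1[τ] ⧸ zpowers τ') = l * Nat.card C1[π v'] →
      (F1 Ω τ).ncard * ((F1 Ω τ).ncard - 1) = l * ((F2 Ω τ v).ncard * ((F2 Ω τ v).ncard - 1)) := fun l hl =>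
    Nat.eq_of_mul_eq_mul_right (show 0 < 4 by norm_num) (by
      rw [mul_assoc, ← e6, hX, hl, mul_assoc, ← e3, e7]; ring)
  rcases e2 with e | e
  · exact arith_E h.two_le_j j_le_i e5 (key _ e.1) e8 hw hx (Or.inl rfl)
  · exact arith_E h.two_le_j j_le_i e5 (key _ e.1) e8 hw hx (Or.inr rfl)

end Hyp

end Cfsg.Lib.TP
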