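import Cfsg.Agent.Lib.TwoPt.Tools

/-!
# Doubly transitive groups whose two-point stabilizer has a self-centralizing Sylow four-group

The common local analysis for two-point stabilizers `A₄` and `A₅`.
-/

set_option autoImplicit false

namespace Cfsg.Lib.TP
open Subgroup Cfsg.Lib Cfsg.Lib.FT Cfsg.Lib.GW MulAction
open Cfsg.Lib.BSW (mul_self_of_orderOf_two orderOf_two_of_mul_self inv_eq_of_orderOf_two)

variable {G Ω : Type*} [Group G] [MulAction G Ω]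

variable (G) in
/-- two-point stabilizer -/
abbrev st (a b : Ω) : Subgroup G := stabilizer G a ⊓ stabilizer G b

/-- `y` interchanges `a` and `b` -/
def Sw (a b : Ω) (y : G) : Prop := y • a = b ∧ y • b = a

variable (Ω) in
/-- fixed points of `τ` -/
abbrev F1 (τ : G) : Set Ω := fx Set.univ τ

variable (Ω) in
/-- fixed points of `⟨τ, v⟩` -/
abbrev F2 (τ v : G) : Set Ω := fx (F1 Ω τ) v

/-- normalizer of the four-group in `C(τ)` -/
abbrev MM (τ v : G) : Subgroup G := C1[τ] ⊓ N[four τ v]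

/-- the `C(τ)`-conjugates of `v` and `τ v` -/
def D2 (τ v : G) : Set G := {y | ∃ g ∈ C1[τ], y = g * v * g⁻¹ ∨ y = g * (τ * v) * g⁻¹}

theorem Sw.mul_mem {a b : Ω} {s k : G} (h : Sw a b s) (hk : k ∈ st G a b) : Sw a b (s * k) :=
  ⟨by rw [mul_smul, hk.1, h.1], by rw [mul_smul, hk.2, h.2]⟩

theorem Sw.mul {a b : Ω} {s y : G} (h : Sw a b s) (hy : Sw a b y) : s * y ∈ st G a b :=
  ⟨show _ = _ by rw [mul_smul, hy.1, h.2], show _ = _ by rw [mul_smul, hy.2, h.1]⟩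

theorem Sw.inv {a b : Ω} {s : G} (h : Sw a b s) : Sw a b s⁻¹ :=
  ⟨by rw [inv_smul_eq_iff, h.2], by rw [inv_smul_eq_iff, h.1]⟩

theorem Sw.conj {a b : Ω} {s k : G} (h : Sw a b s) (hk : k ∈ st G a b) : Sw a b (k * s * k⁻¹) := by
  have := h.mul_mem (inv_mem hk)
  exact ⟨by rw [mul_assoc, mul_smul, this.1, hk.2], by rw [mul_assoc, mul_smul, this.2, hk.1]⟩

theorem conj_mem_c1 {τ g y : G} (hg : g ∈ C1[τ]) (hy : y ∈ C1[τ]) : g⁻¹ * y * g ∈ C1[τ] :=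
  mul_mem (mul_mem (inv_mem hg) hy) hg

theorem conj_τ {τ g : G} (hg : g ∈ C1[τ]) : g * τ * g⁻¹ = τ := by
  rw [mem_c1.1 hg, mul_inv_cancel_right]

theorem D2_conj {τ v g : G} (hg : g ∈ C1[τ]) (y : G) (hy : y ∈ D2 τ v) : g * y * g⁻¹ ∈ D2 τ v := by
  obtain ⟨l, hl, h⟩ := hy
  exact ⟨g * l, mul_mem hg hl, h.imp (fun e => by rw [e]; group) fun e => by rw [e]; group⟩

theorem D2_four {τ v y : G} (hf : Four τ v) (hy : y ∈ D2 τ v) : Four τ y := by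
  obtain ⟨g, hg, rfl | rfl⟩ := hy
  · have := hf.conj g
    rwa [conj_τ hg] at this
  · have := hf.alt.conj g
    rwa [conj_τ hg] at this

theorem D2_mul {τ v y : G} (hf : Four τ v) (hy : y ∈ D2 τ v) : τ * y ∈ D2 τ v := by
  obtain ⟨g, hg, rfl | rfl⟩ := hy
  · exact ⟨g, hg, Or.inr (by rw [← mul_assoc g, mem_c1.1 hg]; group)⟩
  · refine ⟨g, hg, Or.inl ?_⟩
    calc τ * (g * (τ * v) * g⁻¹) = (τ * g) * (τ * v) * g⁻¹ := by group
      _ = _ := by rw [← mem_c1.1 hg, mul_assoc g, hf.tw]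

/-- the standing hypothesis -/
structure Hyp (a b : Ω) (τ v ρ : G) : Prop where
  t2 : T2 (⊤ : Subgroup G) Set.univ a b
  faith : ∀ g : G, (∀ x : Ω, g • x = x) → g = 1
  hf : Four τ v
  τK : τ ∈ st G a b
  vK : v ∈ st G a b
  ρK : ρ ∈ st G a b
  rot1 : ρ * τ * ρ⁻¹ = v
  rot2 : ρ * v * ρ⁻¹ = τ * v
  cent : ∀ g ∈ st G a b, g ∈ C1[τ] → g ∈ four τ v
  h8 : ¬ 8 ∣ Nat.card (st G a b)

/-- the case of a non-central interchanging involution -/
structure CS (a b : Ω) (τ v t : G) : Prop where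
  sw : Sw a b t
  tt : t * t = 1
  cτ : t ∈ C1[τ]
  cv : t * v * t⁻¹ = τ * v

/-- the case of a central interchanging involution -/
structure CE (a b : Ω) (τ v ρ c : G) : Prop where
  sw : Sw a b c
  cc : c * c = 1
  cτ : c ∈ C1[τ]
  cv : c ∈ C1[v]
  cρ : c ∈ C1[ρ]

namespace Hyp

variable {a b : Ω} {τ v ρ : G} (h : Hyp a b τ v ρ)
include h

theorem VK : four τ v ≤ st G a b := four_le_iff.2 ⟨h.τK, h.vK⟩

theorem rot3 : ρ * (τ * v) * ρ⁻¹ = τ := by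
  calc ρ * (τ * v) * ρ⁻¹ = (ρ * τ * ρ⁻¹) * (ρ * v * ρ⁻¹) := by group
    _ = τ := by rw [h.rot1, h.rot2, h.hf.vw]

theorem conj_v : IsConj τ v := isConj_iff.2 ⟨ρ, h.rot1⟩

theorem conj_w : IsConj τ (τ * v) := (isConj_iff.2 ⟨ρ, h.rot3⟩).symm

theorem Vc : four τ v ≤ C1[τ] := h.hf.le_c.trans inf_le_left

theorem VM : four τ v ≤ MM τ v := le_inf h.Vc le_normalizer

theorem inf_K {X : Subgroup G} (h1 : four τ v ≤ X) (h2 : X ≤ C1[τ]) : X ⊓ st G a b = four τ v :=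
  le_antisymm (fun g hg => h.cent g hg.2 (h2 hg.1)) (le_inf h1 h.VK)

theorem sw_mem {s y : G} (hs : Sw a b s) (hs' : s ∈ C1[τ]) (hy : Sw a b y) (hy' : y ∈ C1[τ]) :
    ∃ w ∈ four τ v, y = s * w :=
  ⟨s⁻¹ * y, h.cent _ (hs.inv.mul hy) (mul_mem (inv_mem hs') hy'), by group⟩

theorem mem_F2 {x : Ω} : x ∈ F2 Ω τ v ↔ ∀ w ∈ four τ v, w • x = x := by
  refine ⟨fun hx w hw => ?_, fun hx => ⟨⟨trivial, hx _ (left_mem_four τ v)⟩, hx _ (right_mem_four τ v)⟩⟩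
  rcases h.hf.mem_four.1 hw with rfl | rfl | rfl | rfl
  exacts [one_smul _ _, hx.1.2, hx.2, by rw [mul_smul, hx.2, hx.1.2]]

theorem fx_w : fx (F1 Ω τ) (τ * v) = F2 Ω τ v := by
  ext x
  refine and_congr_right fun hx => ?_
  rw [mul_smul, smul_eq_iff_eq_inv_smul, h.hf.t_inv, hx.2]

variable [Finite G]

theorem sq_eq_one {y : G} (hy : y ∈ st G a b) {n : ℕ} (h2 : y ^ 2 ^ n = 1) : y * y = 1 := by
  obtain ⟨k, -, hk⟩ := mem_conj_four h.hf h.h8 h.VK (isPGroup_zpowers_of_pow h2) (zpowers_le.2 hy)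
  have := h.hf.mul_self (hk y (mem_zpowers y))
  rwa [show k * y * k⁻¹ * (k * y * k⁻¹) = k * (y * y) * k⁻¹ by group, conj_eq_one_iff] at this

theorem conjK {y : G} (hy : y ∈ st G a b) (h2 : orderOf y = 2) : ∃ k ∈ st G a b, k * τ * k⁻¹ = y := by
  obtain ⟨k, hk, h1⟩ := mem_conj_four h.hf h.h8 h.VK
    (isPGroup_zpowers_two (mul_self_of_orderOf_two h2)) (zpowers_le.2 hy)
  rcases h.hf.mem_four.1 (h1 y (mem_zpowers y)) with e | e | e | e
  · exact absurd (by simpa using e) (ne_one_of_orderOf_two h2)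
  · exact ⟨k⁻¹, inv_mem hk, by rw [← e]; group⟩
  · exact ⟨k⁻¹ * ρ, mul_mem (inv_mem hk) h.ρK, by
      rw [show k⁻¹ * ρ * τ * (k⁻¹ * ρ)⁻¹ = k⁻¹ * (ρ * τ * ρ⁻¹) * k by group, h.rot1, ← e]; group⟩
  · exact ⟨k⁻¹ * ρ⁻¹, mul_mem (inv_mem hk) (inv_mem h.ρK), by
      nth_rw 1 [← h.rot3, ← e]
      group⟩

theorem w1 : T2 C1[τ] (F1 Ω τ) a b := by
  refine ⟨fun g hg x hx => ⟨trivial, fix_of_comm hx.2 (mem_c1.1 hg)⟩, ⟨trivial, h.τK.1⟩, ⟨trivial, h.τK.2⟩,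
    h.t2.ne, fun x hx y hy hne => ?_⟩
  obtain ⟨g, -, rfl, rfl⟩ := h.t2.tr x trivial y trivial hne
  obtain ⟨k, hk, e⟩ := h.conjK (y := g⁻¹ * τ * g)
    ⟨show _ = _ by rw [conj_smul'', hx.2, inv_smul_smul], show _ = _ by rw [conj_smul'', hy.2, inv_smul_smul]⟩
    (by simpa using ((MulAut.conj g⁻¹).orderOf_eq τ).trans h.hf.ht)
  refine ⟨g * k, mem_c1.2 ?_, by rw [mul_smul, hk.1], by rw [mul_smul, hk.2]⟩
  calc g * k * τ = g * (k * τ * k⁻¹) * k := by group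
    _ = _ := by rw [e]; group

theorem memM {g : G} (hg : g ∈ C1[τ]) (ha : g • a ∈ F2 Ω τ v) (hb : g • b ∈ F2 Ω τ v) : g ∈ MM τ v := by
  refine mem_inf.2 ⟨hg, (Subgroup.inv_mem_iff _).1 (Four.mem_normalizer ?_ ?_)⟩
  · rw [conj_τ (inv_mem hg)]
    exact left_mem_four τ v
  · rw [inv_inv]
    exact h.cent _ ⟨show _ = _ by rw [conj_smul'', ha.2, inv_smul_smul],
      show _ = _ by rw [conj_smul'', hb.2, inv_smul_smul]⟩ (conj_mem_c1 hg h.hf.v_mem)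

theorem w2 : T2 (MM τ v) (F2 Ω τ v) a b := by
  refine ⟨fun g hg x hx => h.mem_F2.2 fun w hw => ?_, ⟨h.w1.ha, h.vK.1⟩, ⟨h.w1.hb, h.vK.2⟩, h.t2.ne,
    fun x hx y hy hne => ?_⟩
  · have := h.mem_F2.1 hx _ ((mem_normalizer_iff.1 (inv_mem hg.2) w).1 hw)
    rw [inv_inv, conj_smul'', inv_smul_eq_iff] at this
    exact this
  · obtain ⟨g, hg, rfl, rfl⟩ := h.w1.tr x hx.1 y hy.1 hne
    exact ⟨g, h.memM hg hx hy, rfl, rfl⟩

theorem exists_case : (∃ t, CS a b τ v t) ∨ ∃ c, CE a b τ v ρ c := by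
  obtain ⟨s, hs, hw⟩ := h.w2.exists_sw
  replace hw : Sw a b s := hw
  have hf := h.hf
  have hss : s * s ∈ four τ v := h.cent _ (hw.mul hw) (mul_mem hs.1 hs.1)
  rcases hf.conj_v hs.2 hs.1 with e | e
  · right
    have hv : s ∈ C1[v] := mem_c1.2 (mul_inv_eq_iff_eq_mul.1 e)
    have hV : ∀ w ∈ four τ v, s * w = w * s := fun w hw =>
      (mem_centralizer_iff.1 (centralizer_four τ v ▸ (⟨hs.1, hv⟩ : s ∈ C1[τ] ⊓ C1[v])) w hw).symm
    have hVV : ∀ w ∈ four τ v, ∀ w' ∈ four τ v, w * w' = w' * w := fun w hw w' hw' =>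
      (mem_centralizer_iff.1 (hf.le_centralizer hw) w' hw').symm
    obtain ⟨w, hwV, e1⟩ := h.sw_mem hw hs.1 (hw.conj h.ρK) (mem_c1.2 (by
      have := mem_c1.1 (Four.c_w (⟨hs.1, hv⟩ : s ∈ C1[τ] ⊓ C1[v]))
      calc ρ * s * ρ⁻¹ * τ = ρ * (s * (τ * v)) * ρ⁻¹ := by nth_rw 1 [← h.rot3]; group
        _ = _ := by rw [this]; nth_rw 2 [← h.rot3]; group))
    have hsq : ∀ w ∈ four τ v, s * w * (s * w) = s * s := fun w hw => by
      rw [mul_assoc, ← mul_assoc w, ← hV w hw, mul_assoc, hf.mul_self hw, mul_one]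
    have fixρ : ∀ w ∈ four τ v, ρ * w * ρ⁻¹ = w → w = 1 := fun w hw e' => by
      rcases hf.mem_four.1 hw with e0 | e0 | e0 | e0 <;> rw [e0] at e' ⊢
      · exact absurd (h.rot1.symm.trans e') hf.ne
      · exact absurd (h.rot2.symm.trans e') hf.w_ne_v
      · exact absurd (h.rot3.symm.trans e').symm hf.w_ne_t
    have h1 : s * s = 1 := fixρ _ hss (by
      rw [show ρ * (s * s) * ρ⁻¹ = ρ * s * ρ⁻¹ * (ρ * s * ρ⁻¹) by group, e1, hsq w hwV])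
    have key : ∀ u ∈ four τ v, w * (ρ * u * ρ⁻¹) = u → CE a b τ v ρ (s * u) := fun u hu e =>
      ⟨hw.mul_mem (h.VK hu), by rw [hsq u hu, h1], mul_mem hs.1 (hf.le_c hu).1, mul_mem hv (hf.le_c hu).2,
        mem_c1_symm (mem_c1.2 (mul_inv_eq_iff_eq_mul.1 (by
          rw [show ρ * (s * u) * ρ⁻¹ = ρ * s * ρ⁻¹ * (ρ * u * ρ⁻¹) by group, e1, mul_assoc, e])))⟩
    have m1 := left_mem_four τ v
    have m2 := right_mem_four τ v
    rcases hf.mem_four.1 hwV with e0 | e0 | e0 | e0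
    · exact ⟨_, key 1 (one_mem _) (by rw [e0]; group)⟩
    · exact ⟨_, key v m2 (by rw [e0, h.rot2, hf.tw])⟩
    · exact ⟨_, key (τ * v) (mul_mem m1 m2) (by rw [e0, h.rot3, hf.comm])⟩
    · exact ⟨_, key τ m1 (by rw [e0, h.rot1, mul_assoc, hf.vv, mul_one])⟩
  · left
    have e2 : s * v * (s * v) = τ * (s * s) := by
      have := mem_centralizer_iff.1 (hf.le_centralizer hss) v (right_mem_four τ v)
      calc s * v * (s * v) = (s * v * s⁻¹) * (s * s * v) := by group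
        _ = _ := by rw [e, ← this, mul_assoc, ← mul_assoc v, hf.vv, one_mul]
    have e3 : s * v * v * (s * v)⁻¹ = τ * v := by rw [← e]; group
    rcases hf.mem_four.1 hss with e1 | e1 | e1 | e1
    · exact ⟨s, hw, e1, hs.1, e⟩
    · exact ⟨s * v, hw.mul_mem h.vK, by rw [e2, e1, hf.tt], mul_mem hs.1 hf.v_mem, e3⟩
    · exact absurd (e.symm.trans (by rw [← e1]; group)) hf.w_ne_v
    · refine absurd ?_ hf.w_ne_v
      have : s * (τ * v) * s⁻¹ = τ * v := by rw [← e1]; group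
      rw [show s * (τ * v) * s⁻¹ = s * τ * s⁻¹ * (s * v * s⁻¹) by group, conj_τ hs.1, e, hf.tw] at this
      exact this.symm

theorem isConj_of_fix {y : G} (hy : orderOf y = 2) {x x' : Ω} (hx : y • x = x) (hx' : y • x' = x')
    (hne : x ≠ x') : IsConj τ y := by
  obtain ⟨g, -, h1⟩ := h.t2.exists_fix2 y ⟨trivial, hx⟩ ⟨trivial, hx'⟩ hne
  obtain ⟨k, -, e⟩ := h.conjK h1 (by simpa using ((MulAut.conj g⁻¹).orderOf_eq y).trans hy)
  exact isConj_iff.2 ⟨g * k, by rw [show g * k * τ * (g * k)⁻¹ = g * (k * τ * k⁻¹) * g⁻¹ by group, e]; group⟩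

theorem mem_D2_of_fix {y : G} (hy : y ∈ C1[τ]) (h1 : y ≠ 1) (h2 : y ≠ τ) {x x' : Ω}
    (hx : x ∈ fx (F1 Ω τ) y) (hx' : x' ∈ fx (F1 Ω τ) y) (hne : x ≠ x') : y ∈ D2 τ v := by
  obtain ⟨g, hg, h3⟩ := h.w1.exists_fix2 y hx hx' hne
  rcases h.hf.mem_four.1 (h.cent _ h3 (conj_mem_c1 hg hy)) with e | e | e | e
  · exact absurd (by simpa [mul_assoc, inv_mul_eq_one] using e) h1
  · exact absurd (by rw [← conj_τ hg, ← e]; group) h2
  · exact ⟨g, hg, Or.inl (by rw [← e]; group)⟩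
  · exact ⟨g, hg, Or.inr (by rw [← e]; group)⟩

theorem mem_V_of_fix {y : G} (hy : y ∈ MM τ v) {x x' : Ω} (hx : x ∈ fx (F2 Ω τ v) y)
    (hx' : x' ∈ fx (F2 Ω τ v) y) (hne : x ≠ x') : y ∈ four τ v := by
  obtain ⟨g, hg, h3⟩ := h.w2.exists_fix2 y hx hx' hne
  have := (mem_normalizer_iff.1 hg.2 _).1 (h.cent _ h3 (conj_mem_c1 hg.1 hy.1))
  simpa [mul_assoc] using this

omit h [Finite G] in
theorem ncard_conj_fix {y : G} (hy : IsConj τ y) : (F1 Ω y).ncard = (F1 Ω τ).ncard := by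
  obtain ⟨g, rfl⟩ := isConj_iff.1 hy
  exact ncard_fx_conj (fun _ => Iff.rfl) τ

theorem ncard_D2_fix {y : G} (hy : y ∈ D2 τ v) : (fx (F1 Ω τ) y).ncard = (F2 Ω τ v).ncard := by
  obtain ⟨g, hg, rfl | rfl⟩ := hy
  · exact ncard_fx_conj (h.w1.inv_iff hg) v
  · rw [ncard_fx_conj (h.w1.inv_iff hg), h.fx_w]

variable [Finite Ω]

theorem two_le_i : 2 ≤ (F1 Ω τ).ncard := h.w1.two_le

theorem two_le_j : 2 ≤ (F2 Ω τ v).ncard := h.w2.two_le

omit h [Finite G] in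
theorem j_le_i : (F2 Ω τ v).ncard ≤ (F1 Ω τ).ncard := Set.ncard_le_ncard fun _ hx => hx.1

omit [Finite G] in
theorem i_lt_n : (F1 Ω τ).ncard < Nat.card Ω := by
  rw [← Set.ncard_univ]
  refine Set.ncard_lt_ncard (Set.ssubset_univ_iff.2 fun e => h.hf.t_ne (h.faith τ fun x => ?_))
  exact (e ▸ Set.mem_univ x : x ∈ F1 Ω τ).2

theorem card_Ga : Nat.card (stabilizer G a) = (Nat.card Ω - 1) * Nat.card (st G a b) := by
  have := h.t2.card2
  rwa [top_inf_eq, top_inf_eq, Set.ncard_univ] at this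

omit [Finite Ω] in
theorem card_G : Nat.card G = Nat.card Ω * Nat.card (stabilizer G a) := by
  have := h.t2.card1
  rwa [top_inf_eq, card_top, Set.ncard_univ] at this

theorem card_Ca : Nat.card ↥(C1[τ] ⊓ stabilizer G a) = ((F1 Ω τ).ncard - 1) * 4 := by
  rw [h.w1.card2, h.inf_K h.Vc le_rfl, h.hf.card]

theorem card_C : Nat.card C1[τ] = (F1 Ω τ).ncard * (((F1 Ω τ).ncard - 1) * 4) := by
  rw [h.w1.card1, h.card_Ca]

theorem card_Ma : Nat.card ↥(MM τ v ⊓ stabilizer G a) = ((F2 Ω τ v).ncard - 1) * 4 := by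
  rw [h.w2.card2, h.inf_K h.VM inf_le_left, h.hf.card]

theorem card_M : Nat.card (MM τ v) = (F2 Ω τ v).ncard * (((F2 Ω τ v).ncard - 1) * 4) := by
  rw [h.w2.card1, h.card_Ma]

/-- the basic relation between the degree and the number of fixed points of `τ` -/
theorem E1 {k : ℕ} (hk : Nat.card (st G a b) = k * 4) : k * (Nat.card Ω - (F1 Ω τ).ncard) =
    {y | IsConj τ y ∧ Sw a b y}.ncard * ((F1 Ω τ).ncard * ((F1 Ω τ).ncard - 1)) := by
  have hD : ∀ g ∈ (⊤ : Subgroup G), ∀ d ∈ {y | IsConj τ y}, g * d * g⁻¹ ∈ {y | IsConj τ y} :=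
    fun g _ d hd => hd.trans (isConj_iff.2 ⟨g, rfl⟩)
  have hφ : ∀ d ∈ {y | IsConj τ y}, (fx Set.univ d : Set Ω).ncard = (F1 Ω τ).ncard :=
    fun d hd => ncard_conj_fix hd
  have ho : ∀ d ∈ {y | IsConj τ y}, orderOf d = 2 := fun d hd => by
    obtain ⟨g, rfl⟩ := isConj_iff.1 hd
    exact ((MulAut.conj g).orderOf_eq τ).trans h.hf.ht
  have e1 := h.t2.cnt2 hD hφ
  have e2 := h.t2.cnts hD hφ (fun _ _ => mem_top _) fun d hd x _ => by
    rw [← mul_smul, mul_self_of_orderOf_two (ho d hd), one_smul]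
  have e3 := ncard_conj_mul' (st G a b) τ
  rw [inf_comm, h.inf_K h.Vc le_rfl, h.hf.card, hk] at e3
  rw [show {d | d ∈ {y | IsConj τ y} ∧ d • a = a ∧ d • b = b} = {y | ∃ l ∈ st G a b, l * τ * l⁻¹ = y} from
    Set.ext fun d => ⟨fun hd => h.conjK hd.2 (ho d hd.1), fun ⟨l, hl, e⟩ =>
      ⟨isConj_iff.2 ⟨l, e⟩, e ▸ mul_mem (mul_mem hl h.τK) (inv_mem hl)⟩⟩,
    Nat.eq_of_mul_eq_mul_right (by norm_num) e3] at e1
  have e4 := h.t2.two_le
  rw [Set.ncard_univ] at e1 e2 e4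
  refine Nat.eq_of_mul_eq_mul_left (show 0 < Nat.card Ω * (Nat.card Ω - 1) from Nat.mul_pos (by omega) (by omega)) ?_
  rw [← mul_assoc, ← e1, ← mul_assoc (Nat.card Ω * _)]
  erw [← e2]
  ring

theorem ncard_D2 : (D2 τ v).ncard * ((F2 Ω τ v).ncard * ((F2 Ω τ v).ncard - 1)) =
    (F1 Ω τ).ncard * ((F1 Ω τ).ncard - 1) * 2 := by
  rw [h.w1.cnt2 (fun g hg => D2_conj hg) fun d hd => h.ncard_D2_fix hd, ← Set.ncard_pair h.hf.w_ne_v.symm]
  congr 2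
  ext d
  refine ⟨fun hd => ?_, ?_⟩
  · have := D2_four h.hf hd.1
    rcases h.hf.mem_four.1 (h.cent d hd.2 this.v_mem) with e | e | e | e
    exacts [absurd e this.v_ne, absurd e this.ne, Or.inl e, Or.inr e]
  · rintro (rfl | rfl)
    · exact ⟨⟨1, one_mem _, Or.inl (by group)⟩, h.vK⟩
    · exact ⟨⟨1, one_mem _, Or.inr (by group)⟩, mul_mem h.τK h.vK⟩

/-- the basic relation between the numbers of fixed points of `τ` and of the four-group -/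
theorem E2 : 2 * ((F1 Ω τ).ncard - (F2 Ω τ v).ncard) =
    {y | y ∈ D2 τ v ∧ Sw a b y}.ncard * ((F2 Ω τ v).ncard * ((F2 Ω τ v).ncard - 1)) := by
  have e1 := h.ncard_D2
  have e2 := h.w1.cnts (fun g hg => D2_conj hg) (fun d hd => h.ncard_D2_fix hd)
    (fun d hd => (D2_four h.hf hd).v_mem) fun d hd x _ => by
      rw [← mul_smul, (D2_four h.hf hd).vv, one_smul]
  have e4 := h.two_le_i
  refine Nat.eq_of_mul_eq_mul_left (show 0 < (F1 Ω τ).ncard * ((F1 Ω τ).ncard - 1) from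
    Nat.mul_pos (by omega) (by omega)) ?_
  rw [← mul_assoc, ← e1, ← mul_assoc ((F1 Ω τ).ncard * _)]
  erw [← e2]
  ring

theorem par_ni : Nat.card Ω % 2 = (F1 Ω τ).ncard % 2 := by
  rw [← Set.ncard_univ]
  exact modEq_fx h.hf.tt fun _ _ => trivial

theorem par_ij : (F1 Ω τ).ncard % 2 = (F2 Ω τ v).ncard % 2 :=
  modEq_fx h.hf.vv (h.w1.inv v h.hf.v_mem)

end Hyp

end Cfsg.Lib.TP
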