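import Cfsg.Agent.Lib.TwoPt.Even

/-!
# The small degrees in the non-central case
-/

set_option autoImplicit false

namespace Cfsg.Lib.TP
open Subgroup Cfsg.Lib Cfsg.Lib.FT Cfsg.Lib.GW MulAction
open Cfsg.Lib.BSW (mul_self_of_orderOf_two orderOf_two_of_mul_self inv_eq_of_orderOf_two)

variable {G Ω : Type*} [Group G] [MulAction G Ω]

namespace Hyp

variable {a b : Ω} {τ v ρ : G} (h : Hyp a b τ v ρ) [Finite G] [Finite Ω]
include h

omit [Finite Ω] in
theorem card_stab (x : Ω) : Nat.card G = Nat.card Ω * Nat.card (stabilizer G x) := by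
  have := card_orb (⊤ : Subgroup G) x (B := Set.univ) fun q => ⟨fun _ => by
    obtain ⟨g, -, rfl⟩ := h.t2.tr1 (x := x) trivial
    obtain ⟨g', -, rfl⟩ := h.t2.tr1 (x := q) trivial
    exact ⟨g' * g⁻¹, trivial, by rw [mul_smul, inv_smul_smul]⟩, fun _ => trivial⟩
  rwa [top_inf_eq, card_top, Set.ncard_univ] at this

/-- degree 28 does not occur -/
theorem no28 {t : G} (s : CS a b τ v t) (hn : Nat.card Ω = 28) (hi : (F1 Ω τ).ncard = 4) {k : ℕ}
    (hk : Nat.card (st G a b) = k * 4) (hk' : k = 3 ∨ k = 15) : False := by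
  have h7 : Fact (Nat.Prime 7) := ⟨by norm_num⟩
  have h5 : Fact (Nat.Prime 5) := ⟨by norm_num⟩
  have hG := h.card_G
  rw [h.card_Ga, hn, hk] at hG
  obtain ⟨P⟩ : Nonempty (Sylow 7 G) := inferInstance
  have hP : Nat.card P = 7 := by
    obtain ⟨m, hm⟩ := P.2.exists_card_eq
    have e1 := (P : Subgroup G).index_mul_card
    have e2 := P.not_dvd_index
    rcases m with _ | _ | m
    · rw [hm, hG] at e1
      omega
    · exact hm
    · rw [pow_add, pow_add] at hm
      have : 49 ∣ Nat.card G := (Dvd.intro_left (7 ^ m) (by rw [hm]; ring)).trans (card_subgroup_dvd_card _)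
      omega
  obtain ⟨y, hyP, hy⟩ := exists_mem_orderOf_eq_of_dvd (p := 7) (H := (P : Subgroup G)) hP.symm.dvd
  have hy1 : ∀ x : Ω, y • x ≠ x := fun x e => by
    have e1 := h.card_stab x
    have e2 := Subgroup.orderOf_dvd_natCard (stabilizer G x) (x := y) e
    rw [hy] at e2
    rw [hn] at e1
    omega
  have hc : ∀ u ∈ C[(P : Subgroup G)], y * u = u * y := fun u hu => mem_centralizer_iff.1 hu y hyP
  have A : ∀ u ∈ C[(P : Subgroup G)], (F1 Ω u).ncard % 7 = 0 := fun u hu => by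
    have := modEq_fx' (p := 7) (n := 1) (y := y) (F := F1 Ω u) (by rw [pow_one, ← hy, pow_orderOf_eq_one])
      fun g hg x hx => ⟨trivial, fix_of_comm hx.2 (mem_c1.1 ((zpowers_le.2 (mem_c1.2 (hc u hu))) hg))⟩
    rwa [Set.eq_empty_of_forall_notMem (s := fx (F1 Ω u) y) fun x hx => hy1 x hx.2, Set.ncard_empty] at this
  have c2 : ¬ 2 ∣ Nat.card C[(P : Subgroup G)] := fun hd => by
    obtain ⟨u, hu, e⟩ := exists_mem_orderOf_eq_of_dvd hd
    have := A u hu
    rw [ncard_conj_fix (h.oneS s e), hi] at this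
    omega
  have c5 : ¬ 5 ∣ Nat.card C[(P : Subgroup G)] := fun hd => by
    obtain ⟨u, hu, e⟩ := exists_mem_orderOf_eq_of_dvd hd
    have e1 := A u hu
    have e2 := modEq_fx' (p := 5) (n := 1) (y := u) (F := (Set.univ : Set Ω))
      (by rw [pow_one, ← e, pow_orderOf_eq_one]) fun _ _ _ _ => trivial
    have e3 : (F1 Ω u).ncard < (Set.univ : Set Ω).ncard :=
      Set.ncard_lt_ncard (Set.ssubset_univ_iff.2 fun e' => by
        rw [h.faith u fun x => (e' ▸ Set.mem_univ x : x ∈ F1 Ω u).2, orderOf_one] at e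
        omega)
    rw [Set.ncard_univ, hn] at e2 e3
    unfold Nat.ModEq at e2
    unfold F1 at e1 e3
    omega
  have c9 : ¬ 3 ^ 2 ∣ Nat.card C[(P : Subgroup G)] := fun hd => by
    obtain ⟨Q, hQ⟩ := Sylow.exists_subgroup_card_pow_prime 3 hd
    rw [← card_map_of_injective C[(P : Subgroup G)].subtype_injective] at hQ
    obtain ⟨x, -, hx⟩ := exists_fix (IsPGroup.of_card hQ) (F := (Set.univ : Set Ω)) (fun _ _ _ _ => trivial)
      (by rw [Set.ncard_univ, hn]; norm_num)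
    obtain ⟨g, -, e1, e2⟩ := h.t2.tr x trivial _ trivial (hy1 x).symm
    have := card_dvd_of_le (K := st G a b) (H := g⁻¹ •ᶜ Q.map C[(P : Subgroup G)].subtype) (by
      rintro _ ⟨u, hu, rfl⟩
      have e3 := fix_of_comm (hx u hu) (hc u (map_subtype_le _ hu))
      refine ⟨?_, ?_⟩ <;> change (g⁻¹ * u * g⁻¹⁻¹) • _ = _ <;> rw [inv_inv, conj_smul'', inv_smul_eq_iff]
      · rw [e1, hx u hu]
      · rw [e2, e3])
    rw [card_map_conj, hQ, hk] at this
    omega
  have c7 : 7 ∣ Nat.card C[(P : Subgroup G)] := hP.symm.dvd.trans <| card_dvd_of_le (by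
    have := isCyclic_of_prime_card hP
    exact P.le_centralizer)
  have cd : Nat.card C[(P : Subgroup G)] ∣ 2 ^ 4 * (5 * 567) :=
    (card_subgroup_dvd_card _).trans (by rcases hk' with rfl | rfl <;> rw [hG] <;> norm_num)
  replace cd := ((Nat.Prime.coprime_iff_not_dvd h5.out).2 c5).symm.dvd_of_dvd_mul_left
    ((((Nat.Prime.coprime_iff_not_dvd Nat.prime_two).2 c2).symm.pow_right 4).dvd_of_dvd_mul_left cd)
  have key : ∀ c ∈ Nat.divisors 567, ¬ 3 ^ 2 ∣ c → 7 ∣ c → c = 7 ∨ c = 21 := by decide +kernel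
  have e1 := key _ (Nat.mem_divisors.2 ⟨cd, by norm_num⟩) c9 c7
  have e2 := card_dvd_of_injective _ (QuotientGroup.kerLift_injective (P : Subgroup G).normalizerMonoidHom)
  rw [normalizerMonoidHom_ker, ← index, ← relIndex, (isCyclic_of_prime_card hP).card_mulAut, hP,
    Nat.totient_prime h7.out] at e2
  have e3 := relIndex_mul_card (centralizer_le_normalizer ((P : Subgroup G) : Set G))
  have e4 := N[(P : Subgroup G)].index_mul_card
  have e5 := card_sylow_modEq_one 7 G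
  rw [P.card_eq_index_normalizer] at e5
  replace e5 : N[(P : Subgroup G)].index % 7 = 1 := e5
  have e6 := Nat.le_of_dvd (by norm_num) e2
  obtain ⟨e7, rfl⟩ : C[(P : Subgroup G)].relIndex N[(P : Subgroup G)] = 1 ∧ k = 3 := by
    rw [← e3, hG] at e4
    generalize C[(P : Subgroup G)].relIndex N[(P : Subgroup G)] = m at *
    rcases e1 with e | e <;> rw [e] at e4 <;> interval_cases m <;> omega
  have e8 := (MonoidHom.ker_transferSylow_isComplement' P (relIndex_eq_one.1 e7)).card_mul_card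
  rw [hP, hG] at e8
  have e9 := h.dvd_of_normal (N := (MonoidHom.transferSylow P (relIndex_eq_one.1 e7)).ker) inferInstance
    fun e => by rw [e, card_bot] at e8; omega
  rw [hn] at e9
  omega

theorem nA4 {t : G} (s : CS a b τ v t) (hk : Nat.card (st G a b) = 3 * 4) :
    Nat.card Ω = (F1 Ω τ).ncard * (2 * (F1 Ω τ).ncard - 1) := by
  have hf := h.hf
  have aux : ∀ w ∈ four τ v, w ∈ C1[t] → w = 1 ∨ w = τ := fun w hw hc => by
    have e0 := conj_τ (mem_c1_symm hc)
    rcases hf.mem_four.1 hw with e | e | e | e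
    · exact Or.inl e
    · exact Or.inr e
    · exact absurd (s.cv.symm.trans (e ▸ e0)) hf.w_ne_v
    · rw [e, ← conj_mul, conj_τ s.cτ, s.cv, hf.tw] at e0
      exact absurd e0.symm hf.w_ne_v
  have e : ({τ, v, τ * v} : Set G) = {y | y ∈ st G a b ∧ orderOf y = 2} :=
    Set.eq_of_subset_of_ncard_le (by
      rintro _ (rfl | rfl | rfl)
      exacts [⟨h.τK, hf.ht⟩, ⟨h.vK, hf.hv⟩, ⟨mul_mem h.τK h.vK, hf.hw⟩]) (by
      rw [h.ncard_invK hk, Set.ncard_eq_three.2 ⟨τ, v, τ * v, hf.ne.symm, hf.w_ne_t.symm, hf.w_ne_v.symm, rfl⟩])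
  have e1 : st G a b ⊓ C1[t] = zpowers τ := by
    refine le_antisymm (fun g hg => (mem_zpowers_two hf.tt).2 (aux g (h.cent g hg.1 ?_) hg.2))
      (zpowers_le.2 ⟨h.τK, mem_c1_symm s.cτ⟩)
    have h1 : g * τ * g⁻¹ ∈ ({τ, v, τ * v} : Set G) :=
      e ▸ ⟨mul_mem (mul_mem hg.1 h.τK) (inv_mem hg.1), (hf.conj g).ht⟩
    refine mem_c1.2 (mul_inv_eq_iff_eq_mul.1 ((aux _ ?_
      (mul_mem (mul_mem hg.2 (mem_c1_symm s.cτ)) (inv_mem hg.2))).resolve_left (hf.conj g).t_ne))
    rcases h1 with e | e | e <;> rw [e]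
    exacts [left_mem_four τ v, right_mem_four τ v, mul_mem (left_mem_four τ v) (right_mem_four τ v)]
  have e2 := h.dS s
  rw [e1, Nat.card_zpowers, hf.ht, hk] at e2
  have e3 := h.E1 hk
  have e4 := h.i_lt_n
  have e5 := h.two_le_i
  rw [show {y | IsConj τ y ∧ Sw a b y}.ncard = 6 by omega] at e3
  obtain ⟨i, hi⟩ : ∃ u, (F1 Ω τ).ncard = u + 1 := ⟨(F1 Ω τ).ncard - 1, by omega⟩
  rw [hi, Nat.add_sub_cancel] at e3
  rw [hi, show 2 * (i + 1) - 1 = 2 * i + 1 by omega, show Nat.card Ω = i + 1 + 2 * ((i + 1) * i) by omega]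
  ring

omit [Finite Ω] in
theorem alt_of_card {n : ℕ} (hn : Nat.card Ω = n + 2) (hG : 2 * Nat.card G = (n + 2).factorial) :
    Nonempty (G ≃* alternatingGroup (Fin (n + 2))) := by
  let e := Nat.equivFinOfCardPos (α := Ω) (by omega)
  rw [hn] at e
  have hi : Function.Injective (e.permCongrHom.toMonoidHom.comp (toPermHom G Ω)) :=
    e.permCongrHom.injective.comp ((injective_iff_map_eq_one _).2 fun g hg => h.faith g fun x =>
      congrArg (fun σ : Equiv.Perm Ω => σ x) hg)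
  have e1 := (e.permCongrHom.toMonoidHom.comp (toPermHom G Ω)).range.index_mul_card
  rw [← Nat.card_congr (MonoidHom.ofInjective hi).toEquiv, Nat.card_perm, Nat.card_fin, ← hG] at e1
  exact ⟨(MonoidHom.ofInjective hi).trans (MulEquiv.subgroupCongr
    (Equiv.Perm.eq_alternatingGroup_of_index_eq_two (Nat.eq_of_mul_eq_mul_right Nat.card_pos e1)))⟩

theorem simple12 {t : G} (s : CS a b τ v t) (hn : Nat.card Ω = 12) [IsSimpleGroup (st G a b)]
    (hk : Nat.card (st G a b) = 60) : IsSimpleGroup G := by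
  have : Nontrivial G := ⟨τ, 1, h.hf.t_ne⟩
  refine ⟨fun N hN => or_iff_not_imp_left.2 fun h0 => ?_⟩
  obtain ⟨u, hu, e⟩ := exists_mem_orderOf_eq_of_dvd (p := 2)
    ((show 2 ∣ Nat.card Ω by omega).trans (h.dvd_of_normal hN h0))
  obtain ⟨g, e1⟩ := isConj_iff.1 (h.oneS s e).symm
  have hτ : τ ∈ N := e1 ▸ hN.conj_mem u hu g
  have hK : st G a b ≤ N := subgroupOf_eq_top.1 ((hN.subgroupOf (st G a b)).eq_bot_or_eq_top.resolve_left
    fun e => h.hf.t_ne (congrArg Subtype.val (mem_bot.1 (e.le (show (⟨τ, h.τK⟩ : st G a b) ∈ _ from hτ)))))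
  have e2 := card_orb N a (B := Set.univ) fun x => ⟨fun _ => h.normal_trans hN h0 x, fun _ => trivial⟩
  have e3 := h.card_Ga
  have e4 := h.card_G
  have hle : st G a b ≤ N ⊓ stabilizer G a := le_inf hK inf_le_left
  obtain ⟨m, hm⟩ := card_dvd_of_le hle
  have e5 := card_dvd_of_le (inf_le_right : N ⊓ stabilizer G a ≤ _)
  rw [Set.ncard_univ, hn] at e2
  rw [hn, hk] at e3
  rw [hm, e3, hk, mul_comm, Nat.mul_dvd_mul_iff_right (by norm_num)] at e5
  rcases (Nat.dvd_prime (p := 11) (by norm_num)).1 e5 with rfl | rfl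
  · exfalso
    have e6 := eq_of_le_of_card_ge hle (by omega)
    obtain ⟨x, hx⟩ : ∃ x : Ω, τ • x ≠ x := by
      by_contra! hc
      exact h.hf.t_ne (h.faith τ hc)
    obtain ⟨g, -, e7, rfl⟩ := h.t2.tr a trivial x trivial fun e => hx (e ▸ h.τK.1)
    have : g⁻¹ * τ * g ∈ st G a b := e6 ▸ ⟨by simpa using hN.conj_mem τ hτ g⁻¹,
      show _ = _ by rw [conj_smul'', e7, h.τK.1, inv_smul_eq_iff, e7]⟩
    replace this : _ = _ := this.2
    rw [conj_smul'', inv_smul_eq_iff] at this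
    exact hx this
  · exact eq_top_of_card_eq _ (by rw [e4, e3, e2, hm, hk, hn])

omit [Finite Ω] h in
theorem exists_pCore (hO : pPrimeCore 2 G ≠ ⊥) : ∃ q : ℕ, q.Prime ∧ pCore q G ≠ ⊥ := by
  obtain ⟨q, hq, h1⟩ := exists_pCore_ne_bot_of_isSolvable inferInstance hO (odd_order_solvable odd_card_oddCore)
  exact ⟨q, hq, fun e => h1 (by rw [e, inf_bot_eq])⟩

theorem card_A7 (e : G ≃* alternatingGroup (Fin 7)) :
    Nat.card Ω * ((Nat.card Ω - 1) * Nat.card (st G a b)) = 2520 := by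
  rw [← h.card_Ga, ← h.card_G, Nat.card_congr e.toEquiv, nat_card_alternatingGroup, Nat.card_fin]
  rfl

theorem oddA4 {t : G} (s : CS a b τ v t) (hn : Nat.card Ω % 2 = 1) (hk : Nat.card (st G a b) = 3 * 4) :
    Nat.card Ω = 15 ∧ Nonempty (G ≃* alternatingGroup (Fin 7)) := by
  obtain ⟨e⟩ := h.a7S s hn (by_contra fun hO => by
    obtain ⟨q, hq, h1⟩ := exists_pCore hO
    have := Fact.mk hq
    obtain ⟨m, hm⟩ := IsPGroup.iff_card.1 (isPGroup_pCore (p := q) (G := G))
    have h3 := h.dvd_of_normal inferInstance h1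
    have h4 := h.two_le_i
    rw [hm, h.nA4 s hk] at h3
    have key : ∀ u, 2 ≤ u → u ∣ q ^ m → q ∣ u := fun u h1 h2 => by
      obtain ⟨l, -, rfl⟩ := (Nat.dvd_prime_pow hq).1 h2
      exact dvd_pow_self q fun e => by rw [e, pow_zero] at h1; omega
    exact hq.not_dvd_one ((Nat.dvd_sub_iff_right (by omega)
      ((key _ h4 ((dvd_mul_right _ _).trans h3)).mul_left 2)).1
      (key _ (by omega) ((dvd_mul_left _ _).trans h3))))
  have := h.card_A7 e
  rw [hk] at this
  refine ⟨?_, ⟨e⟩⟩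
  generalize Nat.card Ω = n at *
  have : n ≤ 15 := by
    by_contra hc
    have := Nat.mul_le_mul (show 16 ≤ n by omega) (show 15 ≤ n - 1 by omega)
    nlinarith
  interval_cases n <;> omega

theorem evenA4 {t : G} (s : CS a b τ v t) (hn : Nat.card Ω % 2 = 0) (hk : Nat.card (st G a b) = 3 * 4) :
    Nat.card Ω = 6 ∧ Nonempty (G ≃* alternatingGroup (Fin 6)) := by
  have e := h.nA4 s hk
  rcases h.iS s hn with hi | hi <;> rw [hi] at e
  · exact ⟨e, h.alt_of_card (n := 4) e (by rw [h.card_G, h.card_Ga, e, hk]; rfl)⟩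
  · exact (h.no28 s e hi hk (Or.inl rfl)).elim

theorem evenA5 {t : G} (s : CS a b τ v t) (hn : Nat.card Ω % 2 = 0) (hk : Nat.card (st G a b) = 15 * 4) :
    Nat.card Ω = 12 := by
  obtain ⟨w, x, hw, hx, e1, e2⟩ := h.evcount hn hk
  have e3 := h.E1 hk
  have e4 := h.i_lt_n
  rw [h.jS s hn] at e1
  rcases h.iS s hn with hi | hi <;> rw [hi] at e1 e2 e3 e4
  · obtain rfl := Nat.eq_one_of_mul_eq_one_right ((mul_one _).symm.trans e1.symm)
    obtain rfl := Nat.eq_one_of_mul_eq_one_left ((mul_one _).symm.trans e1.symm)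
    omega
  · by_contra hc
    refine h.no28 s ?_ hi hk (Or.inr rfl)
    have : w ≤ 3 := by nlinarith
    have : x ≤ 3 := by nlinarith
    interval_cases w <;> interval_cases x <;> omega

omit [Finite Ω] in
theorem core_bot (hnr : ∀ N : Subgroup G, N.Normal → IsPretransitive N Ω → (∀ x : Ω, stabilizer N x = ⊥) → False) :
    pPrimeCore 2 G = ⊥ := by_contra fun hO => by
  obtain ⟨q, hq, h1⟩ := exists_pCore hO
  have := Fact.mk hq
  obtain ⟨z, z1, z2, z3⟩ := pg_exists_fixed_of_order_p isPGroup_pCore isPGroup_pCore le_normalizer h1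
  have hN : (pCore q G ⊓ C[pCore q G]).Normal := inferInstance
  have ht := h.normal_trans hN fun e => by
    rw [mem_bot.1 (e.le ⟨z1, z3⟩), orderOf_one] at z2
    exact hq.one_lt.ne z2
  refine hnr _ hN ⟨fun x y => ?_⟩ fun x => eq_bot_iff.2 fun u hu => mem_bot.2 (Subtype.ext (h.faith u fun y => ?_))
  all_goals
    obtain ⟨n, hn, rfl⟩ := ht x
    obtain ⟨n', hn', rfl⟩ := ht y
  · exact ⟨⟨n' * n⁻¹, mul_mem hn' (inv_mem hn)⟩, by rw [Subgroup.mk_smul, mul_smul, inv_smul_smul]⟩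
  · have := fix_of_comm (show (u : G) • n • a = n • a from hu)
      (mem_centralizer_iff.1 u.2.2 _ (mul_mem hn' (inv_mem hn)).1)
    rwa [mul_smul, inv_smul_smul] at this

end Hyp

end Cfsg.Lib.TP
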