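import Cfsg.Agent.Lib.TwoPt.Count

/-!
# Double counting in doubly transitive actions
-/

set_option autoImplicit false

namespace Cfsg.Lib.TP
open Subgroup Cfsg.Lib Cfsg.Lib.FT Cfsg.Lib.GW MulAction

theorem dcount {α β : Type*} [Finite α] [Finite β] {A : Set α} {B : Set β} (R : α → β → Prop) {r s : ℕ}
    (h1 : ∀ a ∈ A, {b | b ∈ B ∧ R a b}.ncard = r) (h2 : ∀ b ∈ B, {a | a ∈ A ∧ R a b}.ncard = s) :
    A.ncard * r = B.ncard * s := by
  classical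
  rw [Set.ncard_eq_toFinset_card A, Set.ncard_eq_toFinset_card B]
  refine Finset.card_mul_eq_card_mul R (fun a ha => ?_) fun b hb => ?_
  · rw [← h1 a (by simpa using ha), ← Set.ncard_coe_finset]
    congr 1
    ext
    simp
  · rw [← h2 b (by simpa using hb), ← Set.ncard_coe_finset]
    congr 1
    ext
    simp

theorem ncard_offDiag {α : Type*} [Finite α] (s : Set α) : s.offDiag.ncard = s.ncard * (s.ncard - 1) := by
  classical
  obtain ⟨t, rfl⟩ := (Set.toFinite s).exists_finset_coe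
  rw [← Finset.coe_offDiag, Set.ncard_coe_finset, Set.ncard_coe_finset, Finset.offDiag_card,
    Nat.mul_sub_one]

variable {G Ω : Type*} [Group G] [MulAction G Ω]

/-- the fixed points of `g` in `F` -/
def fx (F : Set Ω) (g : G) : Set Ω := {x | x ∈ F ∧ g • x = x}

theorem mem_fx {F : Set Ω} {g : G} {x : Ω} : x ∈ fx F g ↔ x ∈ F ∧ g • x = x := Iff.rfl

theorem conj_smul' (g u : G) (a : Ω) : (g * u * g⁻¹) • g • a = g • u • a := by
  simp [mul_smul]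

theorem conj_smul'' (g u : G) (a : Ω) : (g⁻¹ * u * g) • a = g⁻¹ • u • g • a := by
  simp [mul_smul]

theorem fix_of_comm {x g : G} {a : Ω} (h : x • a = a) (hc : g * x = x * g) : x • g • a = g • a := by
  rw [← mul_smul, ← hc, mul_smul, h]

theorem ncard_fx_conj {F : Set Ω} {g : G} (h : ∀ x, g • x ∈ F ↔ x ∈ F) (u : G) :
    (fx F (g * u * g⁻¹)).ncard = (fx F u).ncard := by
  symm
  refine Set.ncard_congr (fun x _ => g • x) (fun x hx => ⟨(h x).2 hx.1, by rw [conj_smul', hx.2]⟩)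
    (fun x y _ _ e => smul_left_cancel g e) fun y hy => ⟨g⁻¹ • y, ⟨(h _).1 (by simpa using hy.1), ?_⟩, by simp⟩
  have := hy.2
  rw [mul_smul, mul_smul, smul_eq_iff_eq_inv_smul] at this
  exact this

theorem modEq_fix [Finite G] [Finite Ω] {p : ℕ} [Fact p.Prime] {P : Subgroup G} (hP : IsPGroup p P)
    {F : Set Ω} (h : ∀ g ∈ P, ∀ x ∈ F, g • x ∈ F) :
    F.ncard ≡ {x | x ∈ F ∧ ∀ g ∈ P, g • x = x}.ncard [MOD p] := by
  let S : SubMulAction P Ω := ⟨F, fun g _ hx => h g g.2 _ hx⟩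
  have := hP.card_modEq_card_fixedPoints S
  rw [← Nat.card_coe_set_eq, ← Nat.card_coe_set_eq]
  have e : Nat.card {x | x ∈ F ∧ ∀ g ∈ P, g • x = x} = Nat.card (fixedPoints P S) :=
    Nat.card_congr ⟨fun x => ⟨⟨x, x.2.1⟩, fun g => Subtype.ext (x.2.2 g g.2)⟩,
      fun x => ⟨x.1, x.1.2, fun g hg => congrArg Subtype.val (x.2 ⟨g, hg⟩)⟩, fun _ => rfl, fun _ => rfl⟩
  rw [e]
  exact this

theorem exists_fix [Finite G] [Finite Ω] {p : ℕ} [Fact p.Prime] {P : Subgroup G} (hP : IsPGroup p P)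
    {F : Set Ω} (h : ∀ g ∈ P, ∀ x ∈ F, g • x ∈ F) (hF : ¬ p ∣ F.ncard) :
    ∃ x ∈ F, ∀ g ∈ P, g • x = x := by
  by_contra hc
  have := modEq_fix hP h
  rw [Set.eq_empty_of_forall_notMem (s := {x | x ∈ F ∧ ∀ g ∈ P, g • x = x}) fun x hx => hc ⟨x, hx⟩,
    Set.ncard_empty] at this
  exact hF ((Nat.modEq_zero_iff_dvd).1 this)

theorem modEq_fx [Finite G] [Finite Ω] {y : G} (hy : y * y = 1) {F : Set Ω} (h : ∀ x ∈ F, y • x ∈ F) :
    F.ncard % 2 = (fx F y).ncard % 2 := by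
  have := modEq_fix (isPGroup_zpowers_two hy) (F := F) fun g hg x hx => by
    rcases (mem_zpowers_two hy).1 hg with rfl | rfl
    · simpa using hx
    · exact h x hx
  rw [show {x | x ∈ F ∧ ∀ g ∈ zpowers y, g • x = x} = fx F y from ?_] at this
  · exact this
  ext x
  refine and_congr_right fun _ => ⟨fun h => h y (mem_zpowers y), fun h g hg => ?_⟩
  rcases (mem_zpowers_two hy).1 hg with rfl | rfl
  · simp
  · exact h

theorem card_orb [Finite G] (X : Subgroup G) (p : Ω) {B : Set Ω} (h : ∀ q, q ∈ B ↔ ∃ g ∈ X, g • p = q) :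
    Nat.card X = B.ncard * Nat.card ↥(X ⊓ stabilizer G p) := by
  have h1 : orbit X p = B := by
    ext y
    exact ⟨fun ⟨l, hl⟩ => (h y).2 ⟨l, l.2, hl⟩, fun hy => let ⟨l, hl, e⟩ := (h y).1 hy; ⟨⟨l, hl⟩, e⟩⟩
  have h2 : (stabilizer X p).map X.subtype = X ⊓ stabilizer G p := by
    ext y
    exact ⟨fun ⟨l, hl, e⟩ => e ▸ ⟨l.2, hl⟩, fun ⟨h1, h2⟩ => ⟨⟨y, h1⟩, h2, rfl⟩⟩
  rw [← h1, ← h2, card_map_of_injective X.subtype_injective, ← index_stabilizer, index_mul_card]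

/-- `X` acts doubly transitively on `F`, which contains the two points `a`, `b` -/
structure T2 (X : Subgroup G) (F : Set Ω) (a b : Ω) : Prop where
  inv : ∀ g ∈ X, ∀ x ∈ F, g • x ∈ F
  ha : a ∈ F
  hb : b ∈ F
  ne : a ≠ b
  tr : ∀ x ∈ F, ∀ y ∈ F, x ≠ y → ∃ g ∈ X, g • a = x ∧ g • b = y

namespace T2

variable {X : Subgroup G} {F : Set Ω} {a b : Ω} (h : T2 X F a b)
include h

theorem inv_iff {g : G} (hg : g ∈ X) (x : Ω) : g • x ∈ F ↔ x ∈ F :=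
  ⟨fun hx => by simpa using h.inv _ (inv_mem hg) _ hx, h.inv g hg x⟩

theorem tr1 {x : Ω} (hx : x ∈ F) : ∃ g ∈ X, g • a = x := by
  by_cases e : x = b
  · obtain ⟨g, hg, h1, -⟩ := h.tr x hx a h.ha (e ▸ h.ne.symm)
    exact ⟨g, hg, h1⟩
  · obtain ⟨g, hg, h1, -⟩ := h.tr x hx b h.hb e
    exact ⟨g, hg, h1⟩

theorem two_le [Finite Ω] : 2 ≤ F.ncard :=
  (Set.one_lt_ncard (Set.toFinite F)).2 ⟨a, h.ha, b, h.hb, h.ne⟩

theorem card1 [Finite G] : Nat.card X = F.ncard * Nat.card ↥(X ⊓ stabilizer G a) :=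
  card_orb X a fun _ => ⟨h.tr1, fun ⟨g, hg, e⟩ => e ▸ h.inv g hg a h.ha⟩

theorem card2 [Finite G] [Finite Ω] : Nat.card ↥(X ⊓ stabilizer G a) =
    (F.ncard - 1) * Nat.card ↥(X ⊓ (stabilizer G a ⊓ stabilizer G b)) := by
  rw [← Set.ncard_sdiff_singleton_of_mem h.ha, ← inf_assoc]
  refine card_orb _ b fun q => ⟨fun hq => ?_, fun ⟨g, hg, e⟩ => e ▸ ⟨h.inv g hg.1 b h.hb, fun e' => ?_⟩⟩
  · obtain ⟨g, hg, h1, h2⟩ := h.tr a h.ha q hq.1 (Ne.symm hq.2)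
    exact ⟨g, ⟨hg, h1⟩, h2⟩
  · exact h.ne (smul_left_cancel g ((mem_stabilizer_iff.1 hg.2).trans (Set.mem_singleton_iff.1 e').symm))

/-- the centralizer-free form of "a point fixed by `X`" is impossible -/
theorem not_fix {x : Ω} (hx : x ∈ F) (hf : ∀ g ∈ X, g • x = x) : False := by
  obtain ⟨g, hg, e⟩ := h.tr1 hx
  obtain ⟨g', hg', e'⟩ := h.tr1 h.hb
  have ea : a = x := by rw [← hf g⁻¹ (inv_mem hg), ← e, inv_smul_smul]
  exact h.ne (by rw [← e', ea, hf g' hg'])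

theorem exists_fix2 (y : G) {x x' : Ω} (hx : x ∈ fx F y) (hx' : x' ∈ fx F y) (hne : x ≠ x') :
    ∃ g ∈ X, (g⁻¹ * y * g) • a = a ∧ (g⁻¹ * y * g) • b = b := by
  obtain ⟨g, hg, rfl, rfl⟩ := h.tr x hx.1 x' hx'.1 hne
  exact ⟨g, hg, by rw [conj_smul'', hx.2, inv_smul_smul], by rw [conj_smul'', hx'.2, inv_smul_smul]⟩

theorem exists_swap {y : G} (hy : y ∈ X) {x : Ω} (hx : x ∈ F) (h1 : y • x ≠ x) (h2 : y • y • x = x) :
    ∃ g ∈ X, (g⁻¹ * y * g) • a = b ∧ (g⁻¹ * y * g) • b = a := by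
  obtain ⟨g, hg, rfl, e⟩ := h.tr x hx _ (h.inv y hy x hx) h1.symm
  exact ⟨g, hg, by rw [conj_smul'', ← e, inv_smul_smul], by rw [conj_smul'', e, h2, inv_smul_smul]⟩

theorem exists_sw : ∃ s ∈ X, s • a = b ∧ s • b = a := h.tr b h.hb a h.ha h.ne.symm

variable [Finite G] [Finite Ω] {D : Set G} (hD : ∀ g ∈ X, ∀ d ∈ D, g * d * g⁻¹ ∈ D)
include hD

omit h [Finite G] [Finite Ω] in
theorem ncard_conj {g : G} (hg : g ∈ X) (R R' : G → Prop) (hR : ∀ d, R' (g * d * g⁻¹) ↔ R d) :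
    {d | d ∈ D ∧ R' d}.ncard = {d | d ∈ D ∧ R d}.ncard := by
  symm
  refine Set.ncard_congr (fun d _ => g * d * g⁻¹) (fun d hd => ⟨hD g hg d hd.1, (hR d).2 hd.2⟩)
    (fun x y _ _ e => by simpa using e) fun d hd => ⟨g⁻¹ * d * g, ⟨by simpa using hD _ (inv_mem hg) d hd.1,
      (hR _).1 (by simpa [mul_assoc] using hd.2)⟩, by group⟩

omit [Finite G] [Finite Ω] in
theorem cnt_pt {x : Ω} (hx : x ∈ F) :
    {d | d ∈ D ∧ d • x = x}.ncard = {d | d ∈ D ∧ d • a = a}.ncard := by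
  obtain ⟨g, hg, rfl⟩ := h.tr1 hx
  exact ncard_conj hD hg _ _ fun d => by rw [conj_smul', smul_left_cancel_iff]

theorem cnt1 {φ : ℕ} (hφ : ∀ d ∈ D, (fx F d).ncard = φ) :
    D.ncard * φ = F.ncard * {d | d ∈ D ∧ d • a = a}.ncard :=
  dcount (fun d x => d • x = x) hφ fun _ hx => h.cnt_pt hD hx

theorem cnt2 {φ : ℕ} (hφ : ∀ d ∈ D, (fx F d).ncard = φ) :
    D.ncard * (φ * (φ - 1)) = F.ncard * (F.ncard - 1) * {d | d ∈ D ∧ d • a = a ∧ d • b = b}.ncard := by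
  rw [← ncard_offDiag F]
  refine dcount (fun d (p : Ω × Ω) => d • p.1 = p.1 ∧ d • p.2 = p.2) (fun d hd => ?_) fun p hp => ?_
  · rw [← hφ d hd, ← ncard_offDiag]
    congr 1
    ext p
    simp only [Set.mem_ofPred_eq, Set.mem_offDiag, mem_fx]
    tauto
  · obtain ⟨g, hg, h1, h2⟩ := h.tr _ hp.1 _ hp.2.1 hp.2.2
    rw [← h1, ← h2]
    exact ncard_conj hD hg _ _ fun d => by
      rw [conj_smul', conj_smul', smul_left_cancel_iff, smul_left_cancel_iff]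

theorem cnts {φ : ℕ} (hφ : ∀ d ∈ D, (fx F d).ncard = φ) (hX : ∀ d ∈ D, d ∈ X)
    (h2 : ∀ d ∈ D, ∀ x ∈ F, d • d • x = x) :
    D.ncard * (F.ncard - φ) = F.ncard * (F.ncard - 1) * {d | d ∈ D ∧ d • a = b ∧ d • b = a}.ncard := by
  rw [← ncard_offDiag F]
  refine dcount (fun d (p : Ω × Ω) => d • p.1 = p.2 ∧ d • p.2 = p.1) (fun d hd => ?_) fun p hp => ?_
  · rw [← hφ d hd, ← Set.ncard_sdiff (fun x hx => hx.1)]
    refine Set.ncard_congr (fun p _ => p.1) (fun p hp => ⟨hp.1.1, fun e => hp.1.2.2 (e.2.symm.trans hp.2.1)⟩)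
      (fun p q hp hq e => Prod.ext e (by rw [← hp.2.1, ← hq.2.1, e])) fun x hx =>
      ⟨(x, d • x), ⟨⟨hx.1, h.inv d (hX d hd) x hx.1, fun e => hx.2 ⟨hx.1, e.symm⟩⟩, rfl, h2 d hd x hx.1⟩, rfl⟩
  · obtain ⟨g, hg, h1, h2⟩ := h.tr _ hp.1 _ hp.2.1 hp.2.2
    rw [← h1, ← h2]
    exact ncard_conj hD hg _ _ fun d => by
      rw [conj_smul', conj_smul', smul_left_cancel_iff, smul_left_cancel_iff]

/-- number of elements of `D` at a point, when all elements of `D` are involutions on `F` with one fixed point -/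
theorem cnt_one (hφ : ∀ d ∈ D, (fx F d).ncard = 1) (hX : ∀ d ∈ D, d ∈ X)
    (h2 : ∀ d ∈ D, ∀ x ∈ F, d • d • x = x) {x : Ω} (hx : x ∈ F) :
    {d | d ∈ D ∧ d • x = x}.ncard = {d | d ∈ D ∧ d • a = b ∧ d • b = a}.ncard := by
  have e1 := h.cnt1 hD hφ
  have e2 := h.cnts hD hφ hX h2
  have e3 := h.two_le
  rw [h.cnt_pt hD hx]
  rw [mul_one] at e1
  rw [e1, mul_assoc, mul_assoc, mul_comm (F.ncard - 1)] at e2
  exact Nat.eq_of_mul_eq_mul_right (by omega) (Nat.eq_of_mul_eq_mul_left (by omega) e2)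

end T2

end Cfsg.Lib.TP
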